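import Groth.Prelude.Def_LogNCD
import Groth.Agent.AffNorm62.Basic
import Groth.Agent.FlatMor67.SmoothIsRegular
import Mathlib.RingTheory.TensorProduct.Quotient
import Mathlib.RingTheory.RingHom.Etale

/-! Coordinates cutting out a component of a normal crossing divisor. -/

set_option autoImplicit false
universe u

open CategoryTheory AlgebraicGeometry Opposite TopologicalSpace MvPolynomial TensorProduct

noncomputable section

namespace Groth.Agent.CycCov52

theorem isRegularRing_quotient_X {k B : Type u} [Field k] [CommRing B] {σ : Type u} [Finite σ]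
    (φ : MvPolynomial σ k →+* B) (hφ : φ.Etale) (i : σ) :
    IsRegularRing (B ⧸ Ideal.span {φ (X i)}) := by
  classical
  let P := MvPolynomial σ k
  let I : Ideal P := Ideal.span {X i}
  let φ' : MvPolynomial {j : σ // j ≠ i} k →ₐ[k] P ⧸ I := MvPolynomial.aeval fun j => Ideal.Quotient.mk I (X j.1)
  let ψ₀ : P →ₐ[k] MvPolynomial {j : σ // j ≠ i} k :=
    MvPolynomial.aeval fun j => if h : j = i then 0 else X ⟨j, h⟩
  have hψX : ∀ j, ψ₀ (X j) = if h : j = i then 0 else X ⟨j, h⟩ := fun j => aeval_X _ j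
  have hφX : ∀ j, φ' (X j) = Ideal.Quotient.mk I (X j.1) := fun j => aeval_X _ j
  have hψ₀ : ∀ a ∈ I, ψ₀ a = 0 := fun a ha => by
    obtain ⟨c, rfl⟩ := Ideal.mem_span_singleton'.mp ha
    rw [map_mul, hψX, dif_pos rfl, mul_zero]
  let ψ : P ⧸ I →ₐ[k] MvPolynomial {j : σ // j ≠ i} k := Ideal.Quotient.liftₐ I ψ₀ hψ₀
  let e : MvPolynomial {j : σ // j ≠ i} k ≃ₐ[k] P ⧸ I := AlgEquiv.ofAlgHom φ' ψ
    (Ideal.Quotient.algHom_ext k (MvPolynomial.algHom_ext fun j => by
      show φ' (ψ₀ (X j)) = Ideal.Quotient.mk I (X j)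
      rw [hψX]
      by_cases hj : j = i
      · subst hj
        rw [dif_pos rfl, map_zero]
        exact (Ideal.Quotient.eq_zero_iff_mem.mpr (Ideal.mem_span_singleton_self _)).symm
      · rw [dif_neg hj, hφX]))
    (MvPolynomial.algHom_ext fun j => by
      show ψ (φ' (X j)) = X j
      rw [hφX]
      show ψ₀ (X j.1) = X j
      rw [hψX, dif_neg j.2])
  have : Algebra.Smooth k (MvPolynomial {j : σ // j ≠ i} k) := ⟨inferInstance, inferInstance⟩
  have : Algebra.Smooth k (P ⧸ I) := Algebra.Smooth.of_equiv e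
  let : Algebra P B := φ.toAlgebra
  have : Algebra.Etale P B := hφ
  have : Algebra.Smooth k ((P ⧸ I) ⊗[P] B) := Algebra.Smooth.comp k (P ⧸ I) _
  have := FlatMor67.isRegularRing_of_smooth k ((P ⧸ I) ⊗[P] B)
  have h : I.map φ = Ideal.span {φ (X i)} := by rw [Ideal.map_span, Set.image_singleton]
  exact IsRegularRing.of_ringEquiv (R := (P ⧸ I) ⊗[P] B) ((Algebra.TensorProduct.comm P (P ⧸ I) B).toRingEquiv.trans
    ((Algebra.TensorProduct.quotIdealMapEquivTensorQuot B I).symm.toRingEquiv.trans (Ideal.quotEquivOfEq h)))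

theorem ne_zero_of_etale {k B : Type u} [Field k] [CommRing B] [Nontrivial B] {σ : Type u}
    (φ : MvPolynomial σ k →+* B) (hφ : φ.Etale) (i : σ) : φ (X i) ≠ 0 := by
  let : Algebra (MvPolynomial σ k) B := φ.toAlgebra
  have : Algebra.Etale (MvPolynomial σ k) B := hφ
  intro h0
  have hreg : IsSMulRegular (MvPolynomial σ k) (X i : MvPolynomial σ k) := fun a b hab =>
    mul_left_cancel₀ (X_ne_zero i) hab
  have h1 := (IsSMulRegular.of_flat (S := B) hreg) (a₁ := (1 : B)) (a₂ := 0)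
  refine one_ne_zero (h1 ?_)
  show algebraMap (MvPolynomial σ k) B (X i) • (1 : B) = algebraMap (MvPolynomial σ k) B (X i) • (0 : B)
  rw [show algebraMap (MvPolynomial σ k) B (X i) = 0 from h0, zero_smul, zero_smul]

/-- Near a point of `D_j` this component has, on every affine open, an equation with regular quotient. -/
theorem exists_equation {k : Type u} [Field k] {X : Scheme.{u}} (f : X ⟶ Spec (CommRingCat.of k))
    {r : ℕ} (D : Fin r → X.IdealSheafData) (hD : LogNCD.IsNCD D f) {x : X} (j : Fin r)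
    (hx : x ∈ (D j).support) :
    ∃ W : X.Opens, x ∈ W ∧ ∀ U : X.affineOpens, U.1 ≤ W → Nonempty U.1 → ∃ h : Γ(X, U.1),
      (D j).ideal U = Ideal.span {h} ∧ h ≠ 0 ∧ IsRegularRing (Γ(X, U.1) ⧸ Ideal.span {h}) := by
  obtain ⟨W, hxW, n, v, e, -, het, hideal, -⟩ := hD x ⟨⟨j, hx⟩⟩
  refine ⟨W, hxW, fun U hU hne => ⟨LogNCD.sectOn W hU (v (ULift.up (e ⟨j, hx⟩))), hideal ⟨j, hx⟩ U hU, ?_⟩⟩
  have : IsAffine U.1.toScheme := U.2
  let w : ULift.{u} (Fin n) → Γ(U.1, ⊤) := fun a => (X.homOfLE hU).appTop (v a)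
  have hc : AffineSpace.homOfVector (U.1.ι ≫ f) w = X.homOfLE hU ≫ AffineSpace.homOfVector (W.ι ≫ f) v := by
    apply AffineSpace.hom_ext
    · simp
    · intro a
      rw [AffineSpace.homOfVector_appTop_coord, Scheme.Hom.comp_appTop, CommRingCat.comp_apply,
        AffineSpace.homOfVector_appTop_coord]
  have het' : Etale (AffineSpace.homOfVector (U.1.ι ≫ f) w) := hc ▸ inferInstance
  have hφ : (AffNorm62.coordHom (U.1.ι ≫ f) w).Etale :=
    (HasRingHomProperty.Spec_iff (P := @Etale)).mp ((AffNorm62.property_homOfVector_iff @Etale _ _).mp het')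
  have hφ' := RingHom.Etale.respectsIso.1 _ U.1.topIso.commRingCatIsoToRingEquiv hφ
  let φ : MvPolynomial (ULift.{u} (Fin n)) k →+* Γ(X, U.1) :=
    U.1.topIso.commRingCatIsoToRingEquiv.toRingHom.comp (AffNorm62.coordHom (U.1.ι ≫ f) w)
  have hX : φ (MvPolynomial.X (ULift.up (e ⟨j, hx⟩))) = LogNCD.sectOn W hU (v (ULift.up (e ⟨j, hx⟩))) := by
    show U.1.topIso.hom (eval₂Hom _ w (MvPolynomial.X _)) = _
    rw [eval₂Hom_X', LogNCD.sectOn_apply]
    exact ConcreteCategory.congr_hom (show (X.homOfLE hU).appTop ≫ U.1.topIso.hom =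
      W.topIso.hom ≫ X.presheaf.map (homOfLE hU).op by
        simp [Scheme.Opens.topIso, Scheme.homOfLE_app]
        exact (X.presheaf.map_comp _ _).symm.trans ((congrArg X.presheaf.map (Subsingleton.elim _ _)).trans
          (X.presheaf.map_comp _ _))) _
  rw [← hX]
  have : Nontrivial Γ(X, U.1) := inferInstance
  exact ⟨ne_zero_of_etale φ hφ' _, isRegularRing_quotient_X φ hφ' _⟩

end Groth.Agent.CycCov52
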