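import Groth.Agent.CycCov52.Chart
import Groth.Agent.CycCov52.NCD

/-! Local equations of the branch divisor. -/

set_option autoImplicit false
universe u

open CategoryTheory AlgebraicGeometry Opposite TopologicalSpace

noncomputable section

namespace Groth.Agent.CycCov52

open Var76.LineBundle

variable {X : Scheme.{u}}

theorem ideal_prod {ι : Type*} [DecidableEq ι] (t : Finset ι) (I : ι → X.IdealSheafData) (U : X.affineOpens) :
    (∏ j ∈ t, I j).ideal U = ∏ j ∈ t, (I j).ideal U := by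
  induction t using Finset.induction_on with
  | empty => exact Ideal.one_eq_top.symm
  | insert a t ha ih => rw [Finset.prod_insert ha, Finset.prod_insert ha, Scheme.IdealSheafData.ideal_mul, Pi.mul_apply, ih]

theorem ideal_divIdeal {r : ℕ} (D : Fin r → X.IdealSheafData) (α : Fin r → ℕ) (U : X.affineOpens) :
    (CycCov.divIdeal D α).ideal U = ∏ j, (D j).ideal U ^ α j := by
  rw [CycCov.divIdeal, ideal_prod]
  simp [Scheme.IdealSheafData.ideal_pow]

theorem ideal_eq_top_of_disjoint (I : X.IdealSheafData) (U : X.affineOpens)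
    (h : ∀ z ∈ U.1, z ∉ I.support) : I.ideal U = ⊤ := by
  rw [← PrimeSpectrum.zeroLocus_empty_iff_eq_top]
  refine (Set.image_eq_empty (f := U.2.fromSpec)).mp ?_
  rw [U.2.fromSpec_image_zeroLocus, ← Scheme.IdealSheafData.coe_support_inter]
  exact Set.eq_empty_iff_forall_notMem.mpr fun z hz => h z hz.2 hz.1

variable {L : X.Modules} {N : ℕ} {s : Coh.structureModule X ⟶ CohB1.tensorPow L N}

theorem exists_unit_coord [IsIntegral X] {r : ℕ} {D : Fin r → X.IdealSheafData} {α : Fin r → ℕ}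
    (hs : CycCov.IsZeroDiv (CohB1.tensorPow L N) s (CycCov.divIdeal D α)) (U : X.affineOpens) [Nonempty U.1]
    {e : Γ(L, U.1)} (he : IsFrame L U.1 e) (h : Γ(X, U.1)) (a : ℕ) (h0 : h ≠ 0)
    (hI : (CycCov.divIdeal D α).ideal U = Ideal.span {h ^ a}) :
    ∃ u : Γ(X, U.1)ˣ, SecTwist.val s U.1 = ((u : Γ(X, U.1)) * h ^ a) • CycCov.lpow L U.1 e N := by
  obtain ⟨g, hg⟩ := exists_coord s he
  have hb := isGen_of_isFrame (Amp73.isFrame_epow he N)
  rw [← lpow_eq_epow] at hb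
  have hspan := hs U
  rw [hI, Submodule.ideal_span_singleton_smul] at hspan
  have h1 : (h ^ a • CycCov.lpow L U.1 e N) ∈ Submodule.span Γ(X, U.1) {SecTwist.val s U.1} :=
    hspan.ge (Submodule.smul_mem_pointwise_smul _ _ _ Submodule.mem_top)
  obtain ⟨c, hc⟩ := Submodule.mem_span_singleton.mp h1
  obtain ⟨m, -, hm⟩ := (Submodule.mem_smul_pointwise_iff_exists _ _ _).mp (hspan.le (Submodule.mem_span_singleton_self _))
  obtain ⟨d, rfl⟩ := hb.2 m
  rw [hg] at hc hm
  have hc' : c * g = h ^ a := hb.1 ((mul_smul c g _).trans hc)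
  have hd' : h ^ a * d = g := hb.1 ((mul_smul (h ^ a) d _).trans hm)
  have hu : c * d = 1 := by
    refine mul_left_cancel₀ (pow_ne_zero a h0) ?_
    rw [mul_one, mul_left_comm, hd', hc']
  exact ⟨Units.mkOfMulEqOne d c (by rw [mul_comm]; exact hu), hg.trans (by rw [Units.val_mkOfMulEqOne, mul_comm d, hd'])⟩

/-- The open complement of the supports of a set of components. -/
def avoid {r : ℕ} (D : Fin r → X.IdealSheafData) (T : Finset (Fin r)) : X.Opens :=
  ⟨⋂ j ∈ T, ((D j).support : Set X)ᶜ, isOpen_biInter_finset fun j _ => (D j).support.isClosed.isOpen_compl⟩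

theorem mem_avoid {r : ℕ} {D : Fin r → X.IdealSheafData} {T : Finset (Fin r)} {z : X} :
    z ∈ avoid D T ↔ ∀ j ∈ T, z ∉ (D j).support := by simp [avoid, ← SetLike.mem_coe]

/-- A chart at a point lying on at most one component of the branch divisor. -/
theorem exists_branch_chart {k : Type u} [Field k] [IsIntegral X] (f : X ⟶ Spec (CommRingCat.of k))
    (hL : PicF.IsInvertible L) {r : ℕ} {D : Fin r → X.IdealSheafData} (hD : LogNCD.IsNCD D f) {α : Fin r → ℕ}
    (hs : CycCov.IsZeroDiv (CohB1.tensorPow L N) s (CycCov.divIdeal D α))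
    {x : X} {W : X.Opens} (hxW : x ∈ W) (j : Fin r) (hxj : x ∈ (D j).support)
    (hoth : ∀ j' : Fin r, j' ≠ j → 0 < α j' → x ∉ (D j').support) :
    ∃ (U : X.affineOpens) (e : Γ(L, U.1)) (h : Γ(X, U.1)) (u : Γ(X, U.1)ˣ), x ∈ U.1 ∧ U.1 ≤ W ∧
      IsFrame L U.1 e ∧ h ≠ 0 ∧ IsRegularRing (Γ(X, U.1) ⧸ Ideal.span {h}) ∧ (D j).ideal U = Ideal.span {h} ∧
      (∀ j' : Fin r, j' ≠ j → 0 < α j' → (D j').ideal U = ⊤) ∧
      SecTwist.val s U.1 = ((u : Γ(X, U.1)) * h ^ α j) • CycCov.lpow L U.1 e N := by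
  classical
  obtain ⟨W₁, hxW₁, hW₁⟩ := exists_equation f D hD j hxj
  let T := (Finset.univ : Finset (Fin r)).filter fun j' => j' ≠ j ∧ 0 < α j'
  obtain ⟨U, hxU, hUle, e, he⟩ := exists_affine_frame hL (W := W ⊓ W₁ ⊓ avoid D T) (x := x)
    ⟨⟨hxW, hxW₁⟩, mem_avoid.mpr fun j' hj' => hoth j' (Finset.mem_filter.mp hj').2.1 (Finset.mem_filter.mp hj').2.2⟩
  have : Nonempty U.1 := ⟨⟨x, hxU⟩⟩
  obtain ⟨h, hh, h0, hreg⟩ := hW₁ U (fun z hz => (hUle hz).1.2) ‹_›
  have htop : ∀ j' : Fin r, j' ≠ j → 0 < α j' → (D j').ideal U = ⊤ := fun j' h1 h2 =>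
    ideal_eq_top_of_disjoint _ _ fun z hz =>
      mem_avoid.mp (hUle hz).2 j' (Finset.mem_filter.mpr ⟨Finset.mem_univ _, h1, h2⟩)
  have hI : (CycCov.divIdeal D α).ideal U = Ideal.span {h ^ α j} := by
    rw [ideal_divIdeal, Finset.prod_eq_single j, hh, Ideal.span_singleton_pow]
    · intro j' _ hj'
      rcases Nat.eq_zero_or_pos (α j') with h0' | h0'
      · rw [h0', pow_zero]
      · rw [htop j' hj' h0', Ideal.top_pow, Ideal.one_eq_top]
    · exact fun h => (h (Finset.mem_univ _)).elim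
  obtain ⟨u, hu⟩ := exists_unit_coord hs U he h (α j) h0 hI
  exact ⟨U, e, h, u, hxU, fun z hz => (hUle hz).1.1, he, h0, hreg, hh, htop, hu⟩

/-- A chart at a point off the branch divisor. -/
theorem exists_unbranched_chart [IsIntegral X]
    (hL : PicF.IsInvertible L) {r : ℕ} {D : Fin r → X.IdealSheafData} {α : Fin r → ℕ}
    (hs : CycCov.IsZeroDiv (CohB1.tensorPow L N) s (CycCov.divIdeal D α))
    {x : X} {W : X.Opens} (hxW : x ∈ W) (hoth : ∀ j' : Fin r, 0 < α j' → x ∉ (D j').support) :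
    ∃ (U : X.affineOpens) (e : Γ(L, U.1)) (u : Γ(X, U.1)ˣ), x ∈ U.1 ∧ U.1 ≤ W ∧
      IsFrame L U.1 e ∧ (∀ j' : Fin r, 0 < α j' → (D j').ideal U = ⊤) ∧
      SecTwist.val s U.1 = ((u : Γ(X, U.1)) * 1 ^ 0) • CycCov.lpow L U.1 e N := by
  classical
  let T := (Finset.univ : Finset (Fin r)).filter fun j' => 0 < α j'
  obtain ⟨U, hxU, hUle, e, he⟩ := exists_affine_frame hL (W := W ⊓ avoid D T) (x := x)
    ⟨hxW, mem_avoid.mpr fun j' hj' => hoth j' (Finset.mem_filter.mp hj').2⟩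
  have : Nonempty U.1 := ⟨⟨x, hxU⟩⟩
  have htop : ∀ j' : Fin r, 0 < α j' → (D j').ideal U = ⊤ := fun j' h2 =>
    ideal_eq_top_of_disjoint _ _ fun z hz => mem_avoid.mp (hUle hz).2 j' (Finset.mem_filter.mpr ⟨Finset.mem_univ _, h2⟩)
  have hI : (CycCov.divIdeal D α).ideal U = Ideal.span {(1 : Γ(X, U.1)) ^ 0} := by
    rw [ideal_divIdeal, Finset.prod_eq_one, pow_zero, Ideal.span_singleton_one, Ideal.one_eq_top]
    intro j' _
    rcases Nat.eq_zero_or_pos (α j') with h0' | h0'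
    · rw [h0', pow_zero]
    · rw [htop j' h0', Ideal.top_pow, Ideal.one_eq_top]
  obtain ⟨u, hu⟩ := exists_unit_coord hs U he 1 0 one_ne_zero hI
  exact ⟨U, e, u, hxU, fun z hz => (hUle hz).1, he, htop, hu⟩

theorem isRegularRing_quotient_one (B : Type u) [CommRing B] [IsNoetherianRing B] :
    IsRegularRing (B ⧸ Ideal.span {(1 : B)}) := by
  have : Subsingleton (B ⧸ Ideal.span {(1 : B)}) :=
    Ideal.Quotient.subsingleton_iff.mpr (Ideal.span_singleton_one)
  exact isRegularRing_iff.2 fun P hP => (hP.ne_top (Subsingleton.elim _ _)).elim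

end Groth.Agent.CycCov52
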