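import Mathlib.FieldTheory.KummerExtension

/-! Irreducibility of `X^n - a` over a field in which `-1` is a square. -/

set_option autoImplicit false
universe u

open Polynomial IntermediateField

namespace Groth.Agent.CycCov52

theorem X_pow_sub_C_irreducible_of_neg_one {K : Type u} [Field K] (i : K) (hi : i ^ 2 = -1)
    {n : ℕ} (hn : n ≠ 0) {a : K} (ha : ∀ p : ℕ, p.Prime → p ∣ n → ∀ b : K, b ^ p ≠ a) :
    Irreducible (X ^ n - C a) := by
  induction n using induction_on_primes generalizing K a with
  | zero => exact (hn rfl).elim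
  | one => simpa using irreducible_X_sub_C a
  | prime_mul p n hp IH =>
    rw [mul_comm]
    apply X_pow_mul_sub_C_irreducible
      (X_pow_sub_C_irreducible_of_prime hp (ha p hp (dvd_mul_right _ _)))
    intro E _ _ x hx
    have hint : IsIntegral K x := not_not.mp fun h ↦ by
      simpa only [degree_zero, degree_X_pow_sub_C hp.pos,
        WithBot.natCast_ne_bot] using congr_arg degree (hx.symm.trans (dif_neg h))
    refine IH (algebraMap K K⟮x⟯ i) (by rw [← map_pow, hi, map_neg, map_one]) (right_ne_zero_of_mul hn) ?_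
    intro q hq hqn b hb
    have hnorm : (Algebra.norm K) b ^ q = (-1 : K) ^ (p + 1) * a := by
      rw [← map_pow, hb, ← adjoin.powerBasis_gen hint, Algebra.PowerBasis.norm_gen_eq_coeff_zero_minpoly]
      simp [minpoly_gen, hx, hp.ne_zero.symm, pow_succ]
    rcases Nat.even_or_odd (p + 1) with he | ho
    · rw [he.neg_one_pow, one_mul] at hnorm
      exact ha q hq (dvd_mul_of_dvd_right hqn p) _ hnorm
    · rw [ho.neg_one_pow, neg_one_mul] at hnorm
      rcases hq.eq_two_or_odd' with rfl | hqo
      · refine ha 2 hq (dvd_mul_of_dvd_right hqn p) (i * (Algebra.norm K) b) ?_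
        rw [mul_pow, hi, hnorm, neg_one_mul, neg_neg]
      · refine ha q hq (dvd_mul_of_dvd_right hqn p) (-(Algebra.norm K) b) ?_
        rw [hqo.neg_pow, hnorm, neg_neg]

end Groth.Agent.CycCov52
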