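import Groth.Prelude.Def_CycCov
import Groth.Agent.Amp73.Powers
import Groth.Agent.Mero90.Frames
import Groth.Agent.S14457
import Groth.Agent.Curves2.SmoothNormal
import Mathlib.RingTheory.Smooth.IntegralClosure
import Mathlib.RingTheory.LocalProperties.IntegrallyClosed
import Mathlib.AlgebraicGeometry.FunctionField

/-! Charts of cyclic covers away from the branch divisor. -/

set_option autoImplicit false
universe u

open CategoryTheory AlgebraicGeometry Opposite TopologicalSpace Polynomial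

noncomputable section

namespace Groth.Agent.CycCov52

open Var76.LineBundle

section Alg

variable {A K : Type u} [CommRing A] [CommRing K]

theorem monic_kummer {N : ℕ} (hN0 : N ≠ 0) (f : A) : (X ^ N - C f : A[X]).Monic := monic_X_pow_sub_C f hN0

theorem isUnit_mk_derivative (f : A) (hf : IsUnit f) {N : ℕ} (hN0 : N ≠ 0) (hN : IsUnit (N : A)) :
    IsUnit (AdjoinRoot.mk (X ^ N - C f) (derivative (X ^ N - C f))) := by
  have hT : IsUnit (AdjoinRoot.root (X ^ N - C f)) := by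
    refine (isUnit_pow_iff hN0).mp ?_
    have h : AdjoinRoot.root (X ^ N - C f) ^ N = AdjoinRoot.of _ f := by
      have := AdjoinRoot.mk_self (f := (X ^ N - C f))
      rwa [map_sub, map_pow, AdjoinRoot.mk_X, AdjoinRoot.mk_C, sub_eq_zero] at this
    rw [h]
    exact hf.map _
  rw [derivative_sub, derivative_X_pow, derivative_C, sub_zero, map_mul, map_pow, AdjoinRoot.mk_C,
    AdjoinRoot.mk_X]
  exact (hN.map _).mul (hT.pow _)

theorem map_mk (φ : A →+* K) (p : A[X]) (q : K[X]) (h : q ∣ p.map φ) (r : A[X]) :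
    AdjoinRoot.map φ p q h (AdjoinRoot.mk p r) = AdjoinRoot.mk q (r.map φ) := by
  have : (AdjoinRoot.map φ p q h).comp (AdjoinRoot.mk p) = (AdjoinRoot.mk q).comp (mapRingHom φ) := by
    apply Polynomial.ringHom_ext <;> simp
  exact DFunLike.congr_fun this r

/-- The restriction map between Kummer algebras. -/
def kmap (φ : A →+* K) (N : ℕ) (f : A) :
    AdjoinRoot (X ^ N - C f) →+* AdjoinRoot (X ^ N - C (φ f)) :=
  AdjoinRoot.map φ _ _ (by simp)

theorem kmap_injective (φ : A →+* K) (hφ : Function.Injective φ) {N : ℕ} (hN0 : N ≠ 0) (f : A) :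
    Function.Injective (kmap φ N f) := by
  rw [injective_iff_map_eq_zero]
  intro b hb
  obtain ⟨r, rfl⟩ := AdjoinRoot.mk_surjective b
  rw [kmap, map_mk, AdjoinRoot.mk_eq_zero] at hb
  rw [AdjoinRoot.mk_eq_zero]
  have h : (X ^ N - C f).map φ = X ^ N - C (φ f) := by simp
  rw [← h] at hb
  exact (Polynomial.map_dvd_map _ hφ (monic_kummer hN0 f)).mp hb

/-- An element of the Kummer algebra over `K` integral over `A` comes from the one over `A`, when `A` is
integrally closed in `K`, `f` and `N` are units. -/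
theorem exists_kmap_eq [Algebra A K] (hK : ∀ s : K, IsIntegral A s → ∃ a, algebraMap A K a = s) (f : A) (hf : IsUnit f)
    {N : ℕ} (hN0 : N ≠ 0) (hN : IsUnit (N : A))
    (y : AdjoinRoot (X ^ N - C (algebraMap A K f))) (hy : IsIntegral A y) :
    ∃ b, kmap (algebraMap A K) N f b = y := by
  let p : A[X] := X ^ N - C f
  let q : K[X] := X ^ N - C (algebraMap A K f)
  have hq : p.map (algebraMap A K) = q := by simp [p, q]
  obtain ⟨g, hg, hgi⟩ := exists_derivative_mul_eq_and_isIntegral_coeff (R := A) (S := K)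
    (φ := (AdjoinRoot.mkₐ q).restrictScalars A) AdjoinRoot.mk_surjective (monic_X_pow_sub_C _ hN0)
    (fun i => by show IsIntegral A (q.coeff i); rw [← hq, coeff_map]; exact isIntegral_algebraMap) Ideal.mk_ker hy
  obtain ⟨g0, hg0⟩ := (mem_lifts g).1 ((lifts_iff_coeff_lifts g).2 fun i => hK _ (hgi i))
  obtain ⟨v, hv⟩ := isUnit_mk_derivative f hf hN0 hN
  refine ⟨(v⁻¹ : (AdjoinRoot p)ˣ) * AdjoinRoot.mk p g0, ?_⟩
  have h1 : kmap (algebraMap A K) N f v = AdjoinRoot.mk q (derivative q) := by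
    rw [hv, kmap, map_mk, ← derivative_map, hq]
  have h2 : kmap (algebraMap A K) N f (AdjoinRoot.mk p g0) = AdjoinRoot.mk q g := by
    rw [kmap, map_mk, hg0]
  have hu : IsUnit (kmap (algebraMap A K) N f v) := v.isUnit.map _
  refine hu.mul_left_cancel ?_
  rw [← map_mul, Units.mul_inv_cancel_left, h2, h1]
  exact hg.symm

end Alg

variable {X Y : Scheme.{u}} {π : Y ⟶ X}

theorem res_self (L : X.Modules) {U : X.Opens} (e : Γ(L, U)) : res L (le_refl U) e = e := by
  show L.presheaf.map (𝟙 (op U)) e = e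
  rw [CategoryTheory.Functor.map_id]
  rfl

theorem isGen_of_isFrame {L : X.Modules} {U : X.Opens} {e : Γ(L, U)} (he : IsFrame L U e) :
    CycCov.IsGen L U e := by
  have := he U le_rfl
  rwa [res_self] at this

theorem lpow_eq_epow {L : X.Modules} (U : X.Opens) (e : Γ(L, U)) :
    ∀ n, (CycCov.lpow L U e n : Γ(CohB1.tensorPow L n, U)) = Amp73.epow e n
  | 0 => rfl
  | n + 1 => congrArg (fun q => Amp73.tm (CohB1.tensorPow L n) L q e) (lpow_eq_epow U e n)

theorem exists_affine_frame {L : X.Modules} (hL : PicF.IsInvertible L) {W : X.Opens} {x : X} (hx : x ∈ W) :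
    ∃ U : X.affineOpens, x ∈ U.1 ∧ U.1 ≤ W ∧ ∃ e : Γ(L, U.1), IsFrame L U.1 e := by
  obtain ⟨V, hxV, e, he⟩ := Mero90.exists_frame' hL x
  obtain ⟨U, hU, hxU, hle⟩ := exists_isAffineOpen_mem_and_subset (U := V ⊓ W) (show x ∈ V ⊓ W from ⟨hxV, hx⟩)
  exact ⟨⟨U, hU⟩, hxU, fun z hz => (hle hz).2, _, he.res (fun z hz => (hle hz).1)⟩

theorem exists_coord {L : X.Modules} {N : ℕ} (s : Coh.structureModule X ⟶ CohB1.tensorPow L N)
    {U : X.Opens} {e : Γ(L, U)} (he : IsFrame L U e) :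
    ∃ f : Γ(X, U), SecTwist.val s U = f • CycCov.lpow L U e N := by
  have h := isGen_of_isFrame (Amp73.isFrame_epow he N)
  rw [← lpow_eq_epow] at h
  obtain ⟨f, hf⟩ := h.2 (SecTwist.val s U)
  exact ⟨f, hf.symm⟩

theorem coord_res {L : X.Modules} {N : ℕ} (s : Coh.structureModule X ⟶ CohB1.tensorPow L N)
    {U V : X.Opens} (hVU : V ≤ U) {e : Γ(L, U)} {f : Γ(X, U)}
    (hf : SecTwist.val s U = f • CycCov.lpow L U e N) :
    SecTwist.val s V = X.presheaf.map (homOfLE hVU).op f • CycCov.lpow L V (res L hVU e) N := by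
  have h1 : res (CohB1.tensorPow L N) hVU (SecTwist.val s U) = SecTwist.val s V :=
    SecTwist.map_val s (homOfLE hVU)
  rw [← h1, hf]
  refine (res_smul _ hVU f _).trans ?_
  congr 1
  rw [lpow_eq_epow, lpow_eq_epow]
  exact Amp73.res_epow hVU e N

variable {L : X.Modules} {N : ℕ} {s : Coh.structureModule X ⟶ CohB1.tensorPow L N} (R : CycCov.Root L N s π)

theorem chart_res {U V : X.affineOpens} (hVU : V.1 ≤ U.1) (e : Γ(L, U.1)) (he : CycCov.IsGen L U.1 e)
    (he' : CycCov.IsGen L V.1 (res L hVU e)) (f : Γ(X, U.1))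
    (hf : SecTwist.val s U.1 = f • CycCov.lpow L U.1 e N)
    (hf' : SecTwist.val s V.1 = X.presheaf.map (homOfLE hVU).op f • CycCov.lpow L V.1 (res L hVU e) N)
    (b : AdjoinRoot (Polynomial.X ^ N - Polynomial.C f)) :
    Y.presheaf.map (homOfLE (π.preimage_mono hVU)).op (CycCov.chart R U e he f hf b) =
      CycCov.chart R V (res L hVU e) he' _ hf' (kmap (X.presheaf.map (homOfLE hVU).op).hom N f b) := by
  obtain ⟨p, rfl⟩ := AdjoinRoot.mk_surjective b
  have : ((Y.presheaf.map (homOfLE (π.preimage_mono hVU)).op).hom.comp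
      (CycCov.chart R U e he f hf)).comp (AdjoinRoot.mk _) =
      ((CycCov.chart R V (res L hVU e) he' _ hf').comp
        (kmap (X.presheaf.map (homOfLE hVU).op).hom N f)).comp (AdjoinRoot.mk _) := by
    apply Polynomial.ringHom_ext
    · intro a
      simp only [RingHom.comp_apply, CycCov.chart, kmap, AdjoinRoot.mk_C, AdjoinRoot.lift_of,
        AdjoinRoot.map_of]
      exact (ConcreteCategory.congr_hom (π.naturality (homOfLE hVU).op) a).symm
    · simp only [RingHom.comp_apply, CycCov.chart, kmap, AdjoinRoot.mk_X, AdjoinRoot.lift_root,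
        AdjoinRoot.map_root]
      exact R.t_res U V hVU e he he'
  exact DFunLike.congr_fun this p

theorem chart_of (U : X.affineOpens) (e : Γ(L, U.1)) (he : CycCov.IsGen L U.1 e) (f : Γ(X, U.1))
    (hf : SecTwist.val s U.1 = f • CycCov.lpow L U.1 e N) (a : Γ(X, U.1)) :
    CycCov.chart R U e he f hf (AdjoinRoot.of _ a) = π.app U.1 a :=
  AdjoinRoot.lift_of _

theorem exists_eq_of_isIntegral_res [IsIntegral X] {U V : X.Opens} (hU : IsAffineOpen U) [Nonempty U]
    [Nonempty V] (hVU : V ≤ U) [IsIntegrallyClosed Γ(X, U)] (s : Γ(X, V))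
    (hs : (X.presheaf.map (homOfLE hVU).op).hom.IsIntegralElem s) :
    ∃ a, X.presheaf.map (homOfLE hVU).op a = s := by
  have := functionField_isFractionRing_of_isAffineOpen X U hU
  have h1 := hs.map (X.germToFunctionField V).hom
  have hc : (X.germToFunctionField V).hom.comp (X.presheaf.map (homOfLE hVU).op).hom =
      algebraMap Γ(X, U) X.functionField := by
    ext a
    exact X.presheaf.germ_res_apply (homOfLE hVU) _ _ a
  rw [hc] at h1
  obtain ⟨a, ha⟩ := (IsIntegrallyClosed.isIntegral_iff (R := Γ(X, U)) (K := X.functionField)).mp h1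
  refine ⟨a, germ_injective_of_isIntegral X _ ((genericPoint_spec X).mem_open_set_iff V.isOpen |>.mpr
    (by simpa using ‹Nonempty V›)) ?_⟩
  rw [← ha, ← hc]
  rfl

theorem bijective_chart [IsIntegral X] [IsReduced Y] [IsFinite π] (U : X.affineOpens) [Nonempty U.1]
    [IsIntegrallyClosed Γ(X, U.1)] (hN0 : N ≠ 0) (hN : IsUnit (N : Γ(X, U.1)))
    (W₀ : X.Opens) (hW₀ : Dense (W₀ : Set X)) (hW₀' : Dense ((π ⁻¹ᵁ W₀ : Y.Opens) : Set Y))
    (hbij : ∀ (V : X.affineOpens), V.1 ≤ W₀ → ∀ (e : Γ(L, V.1)) (he : CycCov.IsGen L V.1 e) (f : Γ(X, V.1))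
      (hf : SecTwist.val s V.1 = f • CycCov.lpow L V.1 e N), Function.Bijective (CycCov.chart R V e he f hf))
    (e : Γ(L, U.1)) (hfr : IsFrame L U.1 e) (he : CycCov.IsGen L U.1 e) (f : Γ(X, U.1)) (hfu : IsUnit f)
    (hf : SecTwist.val s U.1 = f • CycCov.lpow L U.1 e N) :
    Function.Bijective (CycCov.chart R U e he f hf) := by
  classical
  have hcov : ∀ x, x ∈ U.1 → x ∈ W₀ → ∃ g : Γ(X, U.1), x ∈ X.basicOpen g ∧ X.basicOpen g ≤ W₀ := by
    intro x hxU hxW
    obtain ⟨g, hg, hxg⟩ := U.2.exists_basicOpen_le ⟨x, hxW⟩ hxU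
    exact ⟨g, hxg, hg⟩
  -- data on a non-empty affine open inside `U ∩ W₀`
  have hinjres : ∀ (V : X.Opens) (hVU : V ≤ U.1), Nonempty V →
      Function.Injective (kmap (X.presheaf.map (homOfLE hVU).op).hom N f) := fun V hVU _ =>
    kmap_injective _ (map_injective_of_isIntegral X _) hN0 f
  have hbV : ∀ (V : X.affineOpens) (hVU : V.1 ≤ U.1), V.1 ≤ W₀ →
      Function.Bijective (CycCov.chart R V (res L hVU e) (isGen_of_isFrame (hfr.res hVU)) _
        (coord_res s hVU hf)) := fun V hVU hV => hbij V hV _ _ _ _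
  obtain ⟨x₀, hx₀U, hx₀W⟩ : ∃ x, x ∈ U.1 ∧ x ∈ W₀ := by
    obtain ⟨x, hx⟩ := ‹Nonempty U.1›
    obtain ⟨z, hz⟩ := hW₀.inter_open_nonempty _ U.1.isOpen ⟨x, hx⟩
    exact ⟨z, hz.1, hz.2⟩
  obtain ⟨g, hxg, hgW⟩ := hcov x₀ hx₀U hx₀W
  let Vg : X.affineOpens := ⟨X.basicOpen g, U.2.basicOpen g⟩
  have hVg : Vg.1 ≤ U.1 := X.basicOpen_le g
  have hne : Nonempty Vg.1 := ⟨⟨x₀, hxg⟩⟩
  refine ⟨?_, ?_⟩
  · intro b b' h
    refine hinjres Vg.1 hVg hne ((hbV Vg hVg hgW).1 ?_)
    rw [← chart_res R hVg e he _ f hf, ← chart_res R hVg e he _ f hf, h]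
  intro y
  -- every restriction to such an open comes from the Kummer algebra over `U`
  have key : ∀ (V : X.affineOpens) (hVU : V.1 ≤ U.1), V.1 ≤ W₀ → Nonempty V.1 → ∃ b,
      Y.presheaf.map (homOfLE (π.preimage_mono hVU)).op y =
        Y.presheaf.map (homOfLE (π.preimage_mono hVU)).op (CycCov.chart R U e he f hf b) := by
    intro V hVU hV hVne
    let ρ := (X.presheaf.map (homOfLE hVU).op).hom
    letI : Algebra Γ(X, U.1) Γ(X, V.1) := ρ.toAlgebra
    let φV := RingEquiv.ofBijective _ (hbV V hVU hV)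
    let ψ : Γ(Y, π ⁻¹ᵁ U.1) →+* AdjoinRoot (Polynomial.X ^ N - Polynomial.C (ρ f)) :=
      φV.symm.toRingHom.comp (Y.presheaf.map (homOfLE (π.preimage_mono hVU)).op).hom
    have hψ : ψ.comp (π.app U.1).hom = algebraMap Γ(X, U.1) _ := by
      ext a
      show φV.symm (Y.presheaf.map (homOfLE (π.preimage_mono hVU)).op (π.app U.1 a)) = _
      rw [RingEquiv.symm_apply_eq]
      have : algebraMap Γ(X, U.1) (AdjoinRoot (Polynomial.X ^ N - Polynomial.C (ρ f))) a =
          AdjoinRoot.of _ (ρ a) := by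
        rw [IsScalarTower.algebraMap_apply Γ(X, U.1) Γ(X, V.1), AdjoinRoot.algebraMap_eq]
        rfl
      rw [this]
      refine Eq.trans ?_ (chart_of R V _ _ _ (coord_res s hVU hf) (ρ a)).symm
      exact (ConcreteCategory.congr_hom (π.naturality (homOfLE hVU).op) a).symm
    have hy : IsIntegral Γ(X, U.1) (ψ y) := by
      have h := ((π.finite_app U.1 U.2).to_isIntegral y).map ψ
      rw [hψ] at h
      exact h
    obtain ⟨b, hb⟩ := exists_kmap_eq (A := Γ(X, U.1)) (K := Γ(X, V.1))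
      (fun t ht => exists_eq_of_isIntegral_res U.2 hVU t ht) f hfu hN0 hN (ψ y) hy
    refine ⟨b, ?_⟩
    rw [chart_res R hVU e he (isGen_of_isFrame (hfr.res hVU)) f hf (coord_res s hVU hf)]
    refine Eq.trans ?_ (congrArg (fun z => φV z) hb).symm
    exact (φV.apply_symm_apply _).symm
  obtain ⟨b, hb⟩ := key Vg hVg hgW hne
  refine ⟨b, ?_⟩
  by_contra hne'
  have hz : y - CycCov.chart R U e he f hf b ≠ 0 := sub_ne_zero.mpr fun h => hne' h.symm
  set z := y - CycCov.chart R U e he f hf b with hzdef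
  refine hz ((basicOpen_eq_bot_iff z).mp ?_)
  rw [← le_bot_iff]
  intro p hp
  obtain ⟨q, hqz, hqW⟩ := hW₀'.inter_open_nonempty _ (Y.basicOpen z).isOpen ⟨p, hp⟩
  exfalso
  have hqU : π q ∈ U.1 := Y.basicOpen_le z hqz
  obtain ⟨h, hxh, hhW⟩ := hcov _ hqU hqW
  let Vh : X.affineOpens := ⟨X.basicOpen h, U.2.basicOpen h⟩
  have hVh : Vh.1 ≤ U.1 := X.basicOpen_le h
  obtain ⟨b', hb'⟩ := key Vh hVh hhW ⟨⟨_, hxh⟩⟩
  -- the two lifts agree, by comparison on the intersection
  let Vgh : X.affineOpens := ⟨X.basicOpen (g * h), U.2.basicOpen _⟩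
  have hVgh : Vgh.1 ≤ U.1 := X.basicOpen_le _
  have h1 : Vgh.1 ≤ Vg.1 := (X.basicOpen_mul g h).le.trans inf_le_left
  have h2 : Vgh.1 ≤ Vh.1 := (X.basicOpen_mul g h).le.trans inf_le_right
  have hghne : Nonempty Vgh.1 := by
    obtain ⟨w, hw⟩ := nonempty_preirreducible_inter (X.basicOpen g).isOpen (X.basicOpen h).isOpen
      ⟨x₀, hxg⟩ ⟨_, hxh⟩
    exact ⟨⟨w, (X.basicOpen_mul g h).ge hw⟩⟩
  have hbb : b = b' := by
    refine hinjres Vgh.1 hVgh hghne ((hbV Vgh hVgh (h1.trans hgW)).1 ?_)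
    rw [← chart_res R hVgh e he _ f hf, ← chart_res R hVgh e he _ f hf]
    have e1 := congrArg (Y.presheaf.map (homOfLE (π.preimage_mono h1)).op) hb
    have e2 := congrArg (Y.presheaf.map (homOfLE (π.preimage_mono h2)).op) hb'
    simp only [← ConcreteCategory.comp_apply, ← Functor.map_comp, ← op_comp, homOfLE_comp] at e1 e2
    exact e1.symm.trans e2
  subst hbb
  have h0 : Y.presheaf.map (homOfLE (π.preimage_mono hVh)).op z = 0 := by
    rw [hzdef, map_sub, hb', sub_self]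
  have := Y.basicOpen_res z (homOfLE (π.preimage_mono hVh)).op
  rw [h0, Scheme.basicOpen_zero] at this
  exact absurd (show q ∈ (π ⁻¹ᵁ Vh.1) ⊓ Y.basicOpen z from ⟨hxh, hqz⟩) (by rw [← this]; exact id)

end Groth.Agent.CycCov52
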