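import Groth.Agent.CycCov52.Chart
import Groth.Agent.Unr55.EtAscent
import Mathlib.RingTheory.RootsOfUnity.PrimitiveRoots

/-! Eigenspaces of the normalised Kummer algebra. -/

set_option autoImplicit false
universe u

noncomputable section

namespace Groth.Agent.CycCov52

open Polynomial TensorProduct

/-- The product of distinct coordinates of an etale chart generates a radical ideal. -/
theorem isRadical_span_prod_coord {k B : Type u} [Field k] [CommRing B] {σ : Type u} [Finite σ]
    (φ : MvPolynomial σ k →+* B) (hφ : φ.Etale) (T : Finset σ) :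
    (Ideal.span {∏ i ∈ T, φ (MvPolynomial.X i)}).IsRadical := by
  classical
  let P := MvPolynomial σ k
  let m : P := ∏ i ∈ T, MvPolynomial.X i
  let I : Ideal P := Ideal.span {m}
  have hI : I.IsRadical := by
    rintro p ⟨n, hn⟩
    rw [Ideal.mem_span_singleton] at hn ⊢
    have hd : ∀ i ∈ T, (MvPolynomial.X i : P) ∣ p := fun i hi =>
      MvPolynomial.X_prime.dvd_of_dvd_pow ((Finset.dvd_prod_of_mem _ hi).trans hn)
    clear hn
    induction T using Finset.induction_on generalizing p with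
    | empty => exact one_dvd _
    | insert a t ha ih =>
      obtain ⟨c, rfl⟩ := hd a (Finset.mem_insert_self _ _)
      show ∏ i ∈ insert a t, MvPolynomial.X i ∣ _
      rw [Finset.prod_insert ha]
      refine mul_dvd_mul_left _ (ih fun i hi => (MvPolynomial.X_prime.dvd_or_dvd (hd i (Finset.mem_insert_of_mem hi))).resolve_left
        fun h => ha ?_)
      rw [MvPolynomial.X_dvd_X] at h
      exact h ▸ hi
  have : _root_.IsReduced (P ⧸ I) := (Ideal.isRadical_iff_quotient_reduced I).mp hI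
  let : Algebra P B := φ.toAlgebra
  have : Algebra.Etale P B := hφ
  have hred : _root_.IsReduced ((P ⧸ I) ⊗[P] B) := Unr55.isReduced_of_etale (A := P ⧸ I) (T := (P ⧸ I) ⊗[P] B)
  have hmap : I.map φ = Ideal.span {∏ i ∈ T, φ (MvPolynomial.X i)} := by
    rw [Ideal.map_span, Set.image_singleton, map_prod]
  rw [Ideal.isRadical_iff_quotient_reduced]
  let e := (Algebra.TensorProduct.comm P (P ⧸ I) B).toRingEquiv.trans
    ((Algebra.TensorProduct.quotIdealMapEquivTensorQuot B I).symm.toRingEquiv.trans (Ideal.quotEquivOfEq hmap))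
  exact isReduced_of_injective e.symm e.symm.injective

theorem sum_pow_primitive {A : Type u} [CommRing A] [IsDomain A] {ζ : A} {N : ℕ} (hζ : IsPrimitiveRoot ζ N) (m : ℕ) :
    ∑ l ∈ Finset.range N, (ζ ^ l) ^ m = if N ∣ m then (N : A) else 0 := by
  have h : ∑ l ∈ Finset.range N, (ζ ^ l) ^ m = ∑ l ∈ Finset.range N, (ζ ^ m) ^ l :=
    Finset.sum_congr rfl fun l _ => by rw [← pow_mul, ← pow_mul, mul_comm]
  rw [h]
  split_ifs with hd
  · simp [(hζ.pow_eq_one_iff_dvd m).mpr hd]
  · have h1 := geom_sum_mul (ζ ^ m) N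
    rw [← pow_mul, mul_comm m, pow_mul, hζ.pow_eq_one, one_pow, sub_self] at h1
    exact (mul_eq_zero.mp h1).resolve_right (sub_ne_zero.mpr fun h => hd ((hζ.pow_eq_one_iff_dvd m).mp h))

/-- The eigencomponents of an integral element of a Kummer algebra are integral. -/
theorem exists_coeff_eq {A K : Type u} [CommRing A] [IsDomain A] [CommRing K] [IsDomain K] [Algebra A K]
    {N : ℕ} (hN0 : 0 < N) (hN : IsUnit (N : A)) {ζ : A} (hζ : IsPrimitiveRoot ζ N) (a : K)
    (hK : ∀ s : K, IsIntegral A s → ∃ b, algebraMap A K b = s)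
    (y : AdjoinRoot (X ^ N - C a)) (hy : IsIntegral A y) :
    ∃ c : Fin N → K, y = ∑ i : Fin N, AdjoinRoot.of _ (c i) * AdjoinRoot.root _ ^ (i : ℕ) ∧
      ∀ i : Fin N, ∃ b, algebraMap A K b = c i ^ N * a ^ (i : ℕ) := by
  classical
  let q : K[X] := X ^ N - C a
  have hq : q.Monic := monic_X_pow_sub_C a hN0.ne'
  have hdq : q.natDegree = N := natDegree_X_pow_sub_C
  let r := AdjoinRoot.root q
  have hr : r ^ N = AdjoinRoot.of q a := by
    have := AdjoinRoot.mk_self (f := q)
    rwa [map_sub, map_pow, AdjoinRoot.mk_X, AdjoinRoot.mk_C, sub_eq_zero] at this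
  obtain ⟨p, rfl⟩ := AdjoinRoot.mk_surjective y
  let p' := p %ₘ q
  have hp' : p'.natDegree < N := by
    have hne : q ≠ 1 := fun h => hN0.ne' (by rw [← hdq, h, natDegree_one])
    exact hdq ▸ natDegree_modByMonic_lt p hq hne
  have hmk : AdjoinRoot.mk q p = AdjoinRoot.mk q p' := by
    conv_lhs => rw [← modByMonic_add_div p q]
    rw [map_add, map_mul, AdjoinRoot.mk_self, zero_mul, add_zero]
  have hy' : AdjoinRoot.mk q p = ∑ i : Fin N, AdjoinRoot.of q (p'.coeff i) * r ^ (i : ℕ) := by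
    rw [hmk]
    conv_lhs => rw [as_sum_range' p' N hp']
    rw [map_sum, Finset.sum_range (fun i => AdjoinRoot.mk q (monomial i (p'.coeff i)))]
    refine Finset.sum_congr rfl fun i _ => ?_
    rw [← C_mul_X_pow_eq_monomial, map_mul, map_pow, AdjoinRoot.mk_C, AdjoinRoot.mk_X]
  refine ⟨fun i => p'.coeff i, hy', fun i => ?_⟩
  let μ : ℕ → AdjoinRoot q := fun l => AdjoinRoot.of q (algebraMap A K (ζ ^ l))
  have hμ : ∀ l, μ l ^ N = 1 := fun l => by
    simp only [μ, ← map_pow]
    rw [← pow_mul, mul_comm, pow_mul, hζ.pow_eq_one, one_pow, map_one, map_one]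
  let σ : ℕ → (AdjoinRoot q →+* AdjoinRoot q) := fun l => AdjoinRoot.lift (AdjoinRoot.of q) (μ l * r) (by
    rw [eval₂_sub, eval₂_X_pow, eval₂_C, mul_pow, hμ, one_mul, hr, sub_self])
  have hσ : ∀ l, IsIntegral A (σ l (AdjoinRoot.mk q p)) := fun l => by
    have h := RingHom.IsIntegralElem.map hy (σ l)
    have hc : (σ l).comp (algebraMap A (AdjoinRoot q)) = algebraMap A (AdjoinRoot q) := by
      ext x
      rw [RingHom.comp_apply, IsScalarTower.algebraMap_apply A K (AdjoinRoot q), AdjoinRoot.algebraMap_eq]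
      exact AdjoinRoot.lift_of _
    rwa [hc] at h
  have hsum : ∑ l ∈ Finset.range N, μ l ^ (N - (i : ℕ)) * σ l (AdjoinRoot.mk q p) =
      (N : AdjoinRoot q) * (AdjoinRoot.of q (p'.coeff i) * r ^ (i : ℕ)) := by
    have h1 : ∀ l, σ l (AdjoinRoot.mk q p) =
        ∑ j : Fin N, AdjoinRoot.of q (p'.coeff j) * (μ l ^ (j : ℕ) * r ^ (j : ℕ)) := fun l => by
      rw [hy', map_sum]
      refine Finset.sum_congr rfl fun j _ => ?_
      rw [map_mul, map_pow, show σ l (AdjoinRoot.of q (p'.coeff j)) = _ from AdjoinRoot.lift_of _,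
        show σ l r = _ from AdjoinRoot.lift_root _, mul_pow]
    simp only [h1, Finset.mul_sum]
    rw [Finset.sum_comm]
    have h2 : ∀ j : Fin N, ∑ l ∈ Finset.range N, μ l ^ (N - (i : ℕ)) * (AdjoinRoot.of q (p'.coeff j) * (μ l ^ (j : ℕ) * r ^ (j : ℕ))) =
        (∑ l ∈ Finset.range N, μ l ^ (N - (i : ℕ) + (j : ℕ))) * (AdjoinRoot.of q (p'.coeff j) * r ^ (j : ℕ)) := fun j => by
      rw [Finset.sum_mul]
      exact Finset.sum_congr rfl fun l _ => by ring
    simp only [h2]
    have h3 : ∀ j : Fin N, ∑ l ∈ Finset.range N, μ l ^ (N - (i : ℕ) + (j : ℕ)) = if j = i then (N : AdjoinRoot q) else 0 := fun j => by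
      simp only [μ, ← map_pow, ← map_sum, sum_pow_primitive hζ]
      have : N ∣ N - (i : ℕ) + (j : ℕ) ↔ j = i := by
        refine ⟨fun ⟨d, hd⟩ => ?_, fun h => by rw [h, Nat.sub_add_cancel i.2.le]⟩
        have h1 := i.2
        have h2 := j.2
        obtain rfl | h1' : d = 1 ∨ d ≠ 1 := em _
        · exact Fin.ext (by omega)
        · rcases d with _ | _ | d
          · omega
          · omega
          · have : N * (d + 1 + 1) ≥ N + N := by rw [Nat.mul_succ, Nat.mul_succ]; omega
            omega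
      simp only [this]
      split_ifs <;> simp
    simp only [h3, ite_mul, zero_mul, Finset.sum_ite_eq', Finset.mem_univ, if_true]
  have hint : IsIntegral A (AdjoinRoot.of q (p'.coeff i) * r ^ (i : ℕ)) := by
    obtain ⟨v, hv⟩ := hN
    have h1 : IsIntegral A ((N : AdjoinRoot q) * (AdjoinRoot.of q (p'.coeff i) * r ^ (i : ℕ))) := by
      rw [← hsum]
      refine IsIntegral.sum _ fun l _ => IsIntegral.mul (IsIntegral.pow ?_ _) (hσ l)
      show IsIntegral A (AdjoinRoot.of q (algebraMap A K (ζ ^ l)))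
      rw [← AdjoinRoot.algebraMap_eq, ← IsScalarTower.algebraMap_apply]
      exact isIntegral_algebraMap
    have h2 := IsIntegral.mul (isIntegral_algebraMap (x := (↑v⁻¹ : A))) h1
    rwa [← mul_assoc, ← map_natCast (algebraMap A (AdjoinRoot q)) N, ← map_mul, ← hv, Units.inv_mul, map_one, one_mul] at h2
  have hpow : IsIntegral A (algebraMap K (AdjoinRoot q) (p'.coeff i ^ N * a ^ (i : ℕ))) := by
    have h := hint.pow N
    rwa [mul_pow, ← pow_mul, mul_comm (i : ℕ), pow_mul, hr, ← map_pow, ← map_pow, ← map_mul] at h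
  refine hK _ ((isIntegral_algebraMap_iff ?_).mp hpow)
  exact AdjoinRoot.of.injective_of_degree_ne_zero (by
    rw [degree_X_pow_sub_C hN0]; exact_mod_cast hN0.ne')

/-- An element whose `N`-th power has only poles of order `< N` along a reduced divisor is regular. -/
theorem exists_eq_of_pow_mul_eq {A K : Type u} [CommRing A] [CommRing K] [IsDomain K] [Algebra A K]
    (hinj : Function.Injective (algebraMap A K)) (hK : ∀ s : K, IsIntegral A s → ∃ b, algebraMap A K b = s)
    {ι : Type*} (T : Finset ι) (h : ι → A) (hrad : (Ideal.span {∏ j ∈ T, h j}).IsRadical) (hH : ∏ j ∈ T, h j ≠ 0)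
    (e : ι → ℕ) {N : ℕ} (hN : 0 < N) (he : ∀ j, e j < N) (x : K) (b : A)
    (hx : x ^ N * algebraMap A K (∏ j ∈ T, h j ^ e j) = algebraMap A K b) :
    ∃ w, algebraMap A K w = x := by
  let H : A := ∏ j ∈ T, h j
  have hHpow : H ^ N = (∏ j ∈ T, h j ^ e j) * ∏ j ∈ T, h j ^ (N - e j) := by
    rw [← Finset.prod_mul_distrib, ← Finset.prod_pow]
    exact Finset.prod_congr rfl fun j _ => by rw [← pow_add, Nat.add_sub_cancel' (he j).le]
  have hy : (x * algebraMap A K H) ^ N = algebraMap A K (b * ∏ j ∈ T, h j ^ (N - e j)) := by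
    rw [mul_pow, ← map_pow, hHpow, map_mul, ← mul_assoc, hx, map_mul]
  obtain ⟨Z, hZ⟩ := hK (x * algebraMap A K H)
    ⟨X ^ N - C (b * ∏ j ∈ T, h j ^ (N - e j)), monic_X_pow_sub_C _ hN.ne', by
      rw [eval₂_sub, eval₂_X_pow, eval₂_C, hy, sub_self]⟩
  have hZmem : Z ^ N ∈ Ideal.span {H} := by
    rw [hinj ((map_pow (algebraMap A K) Z N).trans ((congrArg (· ^ N) hZ).trans hy)), Ideal.mem_span_singleton]
    refine Dvd.dvd.mul_left (Finset.prod_dvd_prod_of_dvd _ _ fun j _ => dvd_pow_self _ ?_) _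
    have := he j
    omega
  obtain ⟨w, hw⟩ := Ideal.mem_span_singleton'.mp (hrad ⟨N, hZmem⟩)
  refine ⟨w, mul_right_cancel₀ ((map_ne_zero_iff _ hinj).mpr hH) ?_⟩
  rw [← map_mul, hw, hZ]

end Groth.Agent.CycCov52
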