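import Groth.Agent.CycCov52.Local
import Groth.Agent.CycCov52.Capelli
import Groth.Agent.Var76.Frames

/-! Irreducibility of the cyclic cover and roots of the section. -/

set_option autoImplicit false
universe u

open CategoryTheory AlgebraicGeometry Opposite TopologicalSpace

noncomputable section

namespace Groth.Agent.CycCov52

open Var76.LineBundle Var76.ZeroScheme

variable {X : Scheme.{u}} [IsIntegral X]

theorem frame_bij {M : X.Modules} {U : X.Opens} {e : Γ(M, U)} (he : IsFrame M U e) :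
    Function.Bijective (fun a : Γ(X, U) => a • e) := by
  have := he U le_rfl
  rwa [res_self] at this

theorem eq_of_res_eq_frame {M : X.Modules} {V V' : X.Opens} (h : V' ≤ V) [Nonempty V'] {e : Γ(M, V)}
    (he : IsFrame M V e) {τ τ' : Γ(M, V)} (hτ : res M h τ = res M h τ') : τ = τ' := by
  obtain ⟨a, ha⟩ := (frame_bij he).2 τ
  obtain ⟨a', ha'⟩ := (frame_bij he).2 τ'
  simp only at ha ha'
  rw [← ha, ← ha', res_smul, res_smul] at hτ
  rw [← ha, ← ha', map_injective_of_isIntegral X _ ((he V' h).1 hτ)]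

theorem exists_coord_unit {M : X.Modules} {V : X.Opens} {e e' : Γ(M, V)} (he : IsFrame M V e) (he' : IsFrame M V e') :
    ∃ c : Γ(X, V), IsUnit c ∧ e' = c • e := by
  obtain ⟨c, hc⟩ := (frame_bij he).2 e'
  obtain ⟨d, hd⟩ := (frame_bij he').2 e
  simp only at hc hd
  refine ⟨c, IsUnit.of_mul_eq_one_right d ((frame_bij he).1 ?_), hc.symm⟩
  show (d * c) • e = (1 : Γ(X, V)) • e
  rw [mul_smul, hc, hd, one_smul]

variable {L : X.Modules} {N : ℕ} {s : Coh.structureModule X ⟶ CohB1.tensorPow L N}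

theorem coord_change {n : ℕ} {t : Coh.structureModule X ⟶ CohB1.tensorPow L n} {U : X.Opens} {e : Γ(L, U)} {a c : Γ(X, U)}
    (h : SecTwist.val t U = a • CycCov.lpow L U (c • e) n) :
    SecTwist.val t U = (a * c ^ n) • CycCov.lpow L U e n := by
  refine h.trans ?_
  show a • (CycCov.lpow L U (c • e) n : Γ(CohB1.tensorPow L n, U)) = (a * c ^ n) • (CycCov.lpow L U e n : Γ(CohB1.tensorPow L n, U))
  rw [lpow_eq_epow, lpow_eq_epow, Amp73.epow_smul]
  exact (mul_smul _ _ _).symm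

theorem coord_unique {U : X.Opens} {e : Γ(L, U)} (he : IsFrame L U e) {a a' : Γ(X, U)}
    (h : SecTwist.val s U = a • CycCov.lpow L U e N) (h' : SecTwist.val s U = a' • CycCov.lpow L U e N) : a = a' := by
  have hb := isGen_of_isFrame (Amp73.isFrame_epow he N)
  rw [← lpow_eq_epow] at hb
  exact hb.1 (h.symm.trans h')

/-- A root of the coordinate of `s` in one chart extends to a root of `s`. -/
theorem exists_root_section {k : Type u} [Field k] (sf : X ⟶ Spec (CommRingCat.of k)) [Smooth sf]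
    (hL : PicF.IsInvertible L) {m p : ℕ} (hp : 0 < p) (hN : m * p = N)
    {U₀ : X.Opens} [Nonempty U₀] {e₀ : Γ(L, U₀)} (he₀ : IsFrame L U₀ e₀) (a₀ b₀ : Γ(X, U₀))
    (ha₀ : SecTwist.val s U₀ = a₀ • CycCov.lpow L U₀ e₀ N) (hb₀ : b₀ ^ p = a₀) :
    ∃ s' : Coh.structureModule X ⟶ CohB1.tensorPow L m,
      SecTwist.val s' U₀ = b₀ • CycCov.lpow L U₀ e₀ m := by
  classical
  let M := CohB1.tensorPow L m
  let σ₀ : Γ(M, U₀) := b₀ • Amp73.epow e₀ m
  choose V hxV _ e he using fun x : X => exists_affine_frame hL (W := ⊤) (x := x) trivial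
  have hσ : ∀ x : X, ∃ σ : Γ(M, (V x).1), ∃ (O : X.Opens) (hO : O ≤ (V x).1) (hO' : O ≤ U₀),
      Nonempty O ∧ res M hO σ = res M hO' σ₀ := by
    intro x
    obtain ⟨z, hz⟩ : ((V x).1 ⊓ U₀ : X.Opens).1.Nonempty := by
      obtain ⟨w, hw⟩ := ‹Nonempty U₀›
      exact nonempty_preirreducible_inter (V x).1.isOpen U₀.isOpen ⟨x, hxV x⟩ ⟨w, hw⟩
    let O : X.Opens := (V x).1 ⊓ U₀
    have hO : O ≤ (V x).1 := inf_le_left
    have hO' : O ≤ U₀ := inf_le_right
    have : Nonempty O := ⟨⟨z, hz⟩⟩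
    have : Nonempty (V x).1 := ⟨⟨x, hxV x⟩⟩
    obtain ⟨c, hc, hce⟩ := exists_coord_unit ((he x).res hO) (he₀.res hO')
    obtain ⟨a, ha⟩ := exists_coord s (he x)
    -- compare the coordinates on the intersection
    have h1 := coord_res s hO ha
    have h2 := coord_res s hO' ha₀
    rw [hce] at h2
    replace h2 := coord_change h2
    have hac := coord_unique ((he x).res hO) h1 h2
    let β : Γ(X, O) := X.presheaf.map (homOfLE hO').op b₀ * c ^ m
    have hβ : β ^ p = X.presheaf.map (homOfLE hO).op a := by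
      rw [hac, ← hb₀, map_pow, mul_pow, ← pow_mul, hN]
    obtain ⟨-, _⟩ := regular_and_closed sf (V x).2
    obtain ⟨b, hb⟩ := exists_eq_of_isIntegral_res (V x).2 hO β
      ⟨Polynomial.X ^ p - Polynomial.C a, Polynomial.monic_X_pow_sub_C a hp.ne', by
        rw [Polynomial.eval₂_sub, Polynomial.eval₂_X_pow, Polynomial.eval₂_C, hβ, sub_eq_zero]⟩
    refine ⟨b • Amp73.epow (e x) m, O, hO, hO', inferInstance, ?_⟩
    show res M hO (b • Amp73.epow (e x) m) = res M hO' (b₀ • Amp73.epow e₀ m)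
    rw [res_smul, res_smul, Amp73.res_epow, Amp73.res_epow, hce, Amp73.epow_smul, smul_smul, hb]
  choose σ O hO hO' hOne hσO using hσ
  -- uniqueness gives the compatibility
  have key : ∀ (x y : X), res M (inf_le_left : (V x).1 ⊓ (V y).1 ≤ (V x).1) (σ x) =
      res M (inf_le_right : (V x).1 ⊓ (V y).1 ≤ (V y).1) (σ y) := by
    intro x y
    have hne : Nonempty (O x ⊓ O y : X.Opens) := by
      obtain ⟨⟨a, ha⟩⟩ := hOne x
      obtain ⟨⟨b, hb⟩⟩ := hOne y
      obtain ⟨w, hw⟩ := nonempty_preirreducible_inter (O x).isOpen (O y).isOpen ⟨a, ha⟩ ⟨b, hb⟩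
      exact ⟨⟨w, hw⟩⟩
    refine eq_of_res_eq_frame (le_inf (inf_le_left.trans (hO x)) (inf_le_right.trans (hO y)))
      (((Amp73.isFrame_epow (he x) m)).res inf_le_left) ?_
    rw [res_res, res_res, ← res_res M (hO x) inf_le_left, hσO x, ← res_res M (hO y) inf_le_right, hσO y, res_res, res_res]
  have hcov : (⊤ : X.Opens) ≤ ⨆ x, (V x).1 := fun x _ => Opens.mem_iSup.2 ⟨x, hxV x⟩
  obtain ⟨g, hg, -⟩ := TopCat.Sheaf.existsUnique_gluing' (⟨M.presheaf, M.isSheaf⟩ : TopCat.Sheaf Ab X)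
    (fun x : X => (V x).1) ⊤ (fun x => homOfLE le_top) hcov σ key
  refine ⟨Var76.Frames.ofSection M g, ?_⟩
  rw [lpow_eq_epow]
  refine (Var76.Frames.val_ofSection M g U₀).trans ?_
  obtain ⟨⟨z, hz⟩⟩ := ‹Nonempty U₀›
  have := hOne z
  refine eq_of_res_eq_frame (hO' z) (Amp73.isFrame_epow he₀ m) ?_
  rw [res_res, ← res_res M (le_top : (V z).1 ≤ ⊤) (hO z), show res M (le_top : (V z).1 ≤ ⊤) g = σ z from hg z]
  exact hσO z

/-- The root property of a section is insensitive to the chart. -/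
theorem pow_eq_of_root (hL : PicF.IsInvertible L) {m p : ℕ} (hp : 0 < p) (hN : m * p = N)
    {U₀ : X.Opens} [Nonempty U₀] {e₀ : Γ(L, U₀)} (he₀ : IsFrame L U₀ e₀) (a₀ b₀ : Γ(X, U₀))
    (ha₀ : SecTwist.val s U₀ = a₀ • CycCov.lpow L U₀ e₀ N) (hb₀ : b₀ ^ p = a₀)
    (s' : Coh.structureModule X ⟶ CohB1.tensorPow L m) (hs' : SecTwist.val s' U₀ = b₀ • CycCov.lpow L U₀ e₀ m)
    (U : X.affineOpens) (e : Γ(L, U.1)) (he : CycCov.IsGen L U.1 e) (a b : Γ(X, U.1))
    (ha : SecTwist.val s U.1 = a • CycCov.lpow L U.1 e N)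
    (hb : SecTwist.val s' U.1 = b • CycCov.lpow L U.1 e m) : a = b ^ p := by
  by_cases hU : Nonempty U.1
  swap
  · have : Subsingleton Γ(X, U.1) := by
      have hbot : U.1 = ⊥ := le_bot_iff.mp fun z hz => (hU ⟨⟨z, hz⟩⟩).elim
      rw [hbot]
      infer_instance
    exact Subsingleton.elim _ _
  obtain ⟨z, hzU, hz₀⟩ : ∃ z, z ∈ U.1 ∧ z ∈ U₀ := by
    obtain ⟨⟨w, hw⟩⟩ := hU
    obtain ⟨⟨w', hw'⟩⟩ := ‹Nonempty U₀›
    exact nonempty_preirreducible_inter U.1.isOpen U₀.isOpen ⟨w, hw⟩ ⟨w', hw'⟩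
  obtain ⟨g, hgle, hzg⟩ := U.2.exists_basicOpen_le ⟨z, hz₀⟩ hzU
  have hle : X.basicOpen g ≤ U.1 := X.basicOpen_le g
  have : Nonempty (X.basicOpen g) := ⟨⟨z, hzg⟩⟩
  have hf := he₀.res hgle
  obtain ⟨c, hc⟩ := (frame_bij hf).2 (res L hle e)
  simp only at hc
  have hc0 : c ≠ 0 := by
    intro h0
    rw [h0, zero_smul] at hc
    obtain ⟨M, hM⟩ := exists_pow_smul_eq_zero (Mero90.isFinLocFreeOfRank_of_isInvertible hL) U.2 g e hc.symm
    have hgM : g ^ M = 0 := he.1 (show g ^ M • e = (0 : Γ(X, U.1)) • e by rw [hM, zero_smul])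
    have hg0 : g = 0 := eq_zero_of_pow_eq_zero hgM
    rw [hg0, Scheme.basicOpen_zero] at hzg
    exact hzg
  have h1 := coord_res s hle ha
  have h2 := coord_res s hgle ha₀
  have h1' := coord_res s' hle hb
  have h2' := coord_res s' hgle hs'
  rw [← hc] at h1 h1'
  replace h1 := coord_change h1
  replace h1' := coord_change h1'
  have e1 := coord_unique hf h1 h2
  have e2 := coord_unique hf h1' h2'
  refine map_injective_of_isIntegral X (homOfLE hle) (mul_right_cancel₀ (pow_ne_zero N hc0) ?_)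
  rw [e1, ← hb₀, map_pow, map_pow, ← hN, pow_mul, ← mul_pow, ← e2]

variable {Y : Scheme.{u}} {π : Y ⟶ X}

/-- If the coordinates of `s` have no roots of prime order dividing `N`, the cover is irreducible. -/
theorem irreducibleSpace_of_no_root {k : Type u} [Field k] [IsAlgClosed k] (sf : X ⟶ Spec (CommRingCat.of k)) [Smooth sf]
    (hL : PicF.IsInvertible L) (R : CycCov.Root L N s π) (hR : CycCov.IsCover R) (hN : 0 < N)
    (h : ∀ p : ℕ, p.Prime → p ∣ N → ∀ (U : X.affineOpens) (_ : Nonempty U.1) (e : Γ(L, U.1)), IsFrame L U.1 e →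
      ∀ a b : Γ(X, U.1), SecTwist.val s U.1 = a • CycCov.lpow L U.1 e N → b ^ p ≠ a) :
    IrreducibleSpace Y := by
  obtain ⟨hfin, hnor, W₀, hW₀, hW₀', hbij⟩ := hR
  have hred : IsReduced Y := by
    have : ∀ y : Y, _root_.IsReduced (Y.presheaf.stalk y) := fun y => have := (hnor y).1; inferInstance
    exact isReduced_of_isReduced_stalk Y
  -- the simple cover over a small chart is integral
  have hdom : ∀ (U : X.affineOpens) (e : Γ(L, U.1)), IsFrame L U.1 e → Nonempty U.1 → U.1 ≤ W₀ →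
      IsDomain Γ(Y, π ⁻¹ᵁ U.1) := by
    intro U e he hne hU
    obtain ⟨f, hf⟩ := exists_coord s he
    obtain ⟨-, _⟩ := regular_and_closed sf U.2
    have := functionField_isFractionRing_of_isAffineOpen X U.1 U.2
    let γ : Γ(X, U.1) →+* X.functionField := algebraMap _ _
    let φ : k →+* Γ(X, U.1) := (Spec.preimage (U.2.fromSpec ≫ sf)).hom
    obtain ⟨i, hi⟩ := IsAlgClosed.exists_pow_nat_eq (-1 : k) (n := 2) (by norm_num)
    have hirr : Irreducible (Polynomial.X ^ N - Polynomial.C (γ f)) := by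
      refine X_pow_sub_C_irreducible_of_neg_one (γ (φ i)) (by rw [← map_pow, ← map_pow, hi, map_neg, map_neg, map_one, map_one])
        hN.ne' fun p hp hpN b hb => ?_
      obtain ⟨b₀, hb₀⟩ := (IsIntegrallyClosed.isIntegral_iff (R := Γ(X, U.1)) (x := b)).mp
        ⟨Polynomial.X ^ p - Polynomial.C f, Polynomial.monic_X_pow_sub_C f hp.ne_zero, by
          rw [Polynomial.eval₂_sub, Polynomial.eval₂_X_pow, Polynomial.eval₂_C, hb, sub_self]⟩
      refine h p hp hpN U hne e he f b₀ hf (IsFractionRing.injective Γ(X, U.1) X.functionField ?_)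
      rw [map_pow, hb₀]
      exact hb
    have := Fact.mk hirr
    have hB : IsDomain (AdjoinRoot (Polynomial.X ^ N - Polynomial.C f)) :=
      (kmap_injective γ (IsFractionRing.injective _ _) hN.ne' f).isDomain (kmap γ N f)
    let θ := RingEquiv.ofBijective _ (hbij U hU e (isGen_of_isFrame he) f hf)
    exact θ.symm.injective.isDomain θ.symm.toRingHom
  have hcov : ∀ {x : X} (O : X.Opens), x ∈ O → ∃ (U : X.affineOpens) (e : Γ(L, U.1)), x ∈ U.1 ∧ U.1 ≤ O ∧ IsFrame L U.1 e :=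
    fun O hx => by
      obtain ⟨U, hxU, hUO, e, he⟩ := exists_affine_frame hL hx
      exact ⟨U, e, hxU, hUO, he⟩
  have hint : ∀ (U : X.affineOpens) (e : Γ(L, U.1)), IsFrame L U.1 e → Nonempty U.1 → U.1 ≤ W₀ →
      IrreducibleSpace (π ⁻¹ᵁ U.1).toScheme := by
    intro U e he hne hU
    have := hdom U e he hne hU
    have : IsAffine (π ⁻¹ᵁ U.1).toScheme := U.2.preimage π
    have : IsDomain Γ((π ⁻¹ᵁ U.1).toScheme, ⊤) :=
      (π ⁻¹ᵁ U.1).topIso.commRingCatIsoToRingEquiv.injective.isDomain (π ⁻¹ᵁ U.1).topIso.commRingCatIsoToRingEquiv.toRingHom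
    have : Nonempty (π ⁻¹ᵁ U.1).toScheme := by
      by_contra hc
      have hbot : π ⁻¹ᵁ U.1 = ⊥ := le_bot_iff.mp fun z hz => (hc ⟨⟨z, hz⟩⟩).elim
      have hsub : Subsingleton Γ(Y, π ⁻¹ᵁ U.1) := by rw [hbot]; infer_instance
      exact not_subsingleton Γ(Y, π ⁻¹ᵁ U.1) hsub
    have hne' : IsIntegral (π ⁻¹ᵁ U.1).toScheme :=
      isIntegral_of_isAffine_of_isDomain _
    infer_instance
  have hnonempty : ∀ (U : X.affineOpens) (e : Γ(L, U.1)), IsFrame L U.1 e → Nonempty U.1 → U.1 ≤ W₀ →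
      ((π ⁻¹ᵁ U.1 : Y.Opens) : Set Y).Nonempty := fun U e he hne hU => by
    have := hint U e he hne hU
    obtain ⟨⟨z, hz⟩⟩ := (inferInstance : Nonempty (π ⁻¹ᵁ U.1).toScheme)
    exact ⟨z, hz⟩
  obtain ⟨x₀, hx₀⟩ := hW₀.nonempty
  obtain ⟨U₁, e₁, hx₁, hU₁, he₁⟩ := hcov W₀ hx₀
  obtain ⟨y₁, hy₁⟩ := hnonempty U₁ e₁ he₁ ⟨⟨x₀, hx₁⟩⟩ hU₁
  have : Nonempty Y := ⟨y₁⟩
  -- every open meets the preimage of a chart
  have meet : ∀ (U U' : X.affineOpens) (e : Γ(L, U.1)) (e' : Γ(L, U'.1)), IsFrame L U.1 e → IsFrame L U'.1 e' →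
      U.1 ≤ W₀ → U'.1 ≤ W₀ → ∀ (P P' : Set Y), IsOpen P → IsOpen P' →
      (P ∩ (π ⁻¹ᵁ U.1 : Y.Opens)).Nonempty → (P' ∩ (π ⁻¹ᵁ U'.1 : Y.Opens)).Nonempty → (P ∩ P').Nonempty := by
    intro U U' e e' he he' hU hU' P P' hP hP' hPU hP'U'
    obtain ⟨p, hpP, hpU⟩ := hPU
    obtain ⟨p', hp'P, hp'U⟩ := hP'U'
    obtain ⟨x, hxU, hxU'⟩ := nonempty_preirreducible_inter U.1.isOpen U'.1.isOpen ⟨π p, hpU⟩ ⟨π p', hp'U⟩
    obtain ⟨U'', hxU'', hle, e'', he''⟩ := exists_affine_frame hL (show x ∈ U.1 ⊓ U'.1 from ⟨hxU, hxU'⟩)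
    obtain ⟨q, hq⟩ := hnonempty U'' e'' he'' ⟨⟨x, hxU''⟩⟩ ((hle.trans inf_le_left).trans hU)
    have h1 := hint U e he ⟨⟨π p, hpU⟩⟩ hU
    have h2 := hint U' e' he' ⟨⟨π p', hp'U⟩⟩ hU'
    haveI : PreirreducibleSpace ↥(π ⁻¹ᵁ U.1) := h1.toPreirreducibleSpace
    haveI : PreirreducibleSpace ↥(π ⁻¹ᵁ U'.1) := h2.toPreirreducibleSpace
    obtain ⟨⟨w, hwU⟩, hwP, hwU'⟩ := nonempty_preirreducible_inter (X := ↥(π ⁻¹ᵁ U.1))
      (hP.preimage continuous_subtype_val) ((π ⁻¹ᵁ U'.1).isOpen.preimage continuous_subtype_val)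
      ⟨⟨p, hpU⟩, hpP⟩ ⟨⟨q, (hle hq).1⟩, (hle hq).2⟩
    obtain ⟨⟨w', hw'U'⟩, hw'P', hw'P⟩ := nonempty_preirreducible_inter (X := ↥(π ⁻¹ᵁ U'.1))
      (hP'.preimage continuous_subtype_val) (hP.preimage continuous_subtype_val)
      ⟨⟨p', hp'U⟩, hp'P⟩ ⟨⟨w, hwU'⟩, hwP⟩
    exact ⟨w', hw'P, hw'P'⟩
  have hpre : PreirreducibleSpace Y := ⟨fun P P' hP hP' hPne hP'ne => by
    rw [Set.univ_inter] at hPne hP'ne ⊢
    obtain ⟨q, hqP, hqW⟩ := hW₀'.inter_open_nonempty P hP hPne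
    obtain ⟨q', hq'P, hq'W⟩ := hW₀'.inter_open_nonempty P' hP' hP'ne
    obtain ⟨U, e, hqU, hU, he⟩ := hcov W₀ hqW
    obtain ⟨U', e', hq'U, hU', he'⟩ := hcov W₀ hq'W
    exact meet U U' e e' he he' hU hU' P P' hP hP' ⟨q, hqP, hqU⟩ ⟨q', hq'P, hq'U⟩⟩
  exact { toPreirreducibleSpace := hpre, toNonempty := inferInstance }

/-- A root of `s` of order `μ > 1` makes the cover reducible. -/
theorem not_irreducibleSpace_of_root (hL : PicF.IsInvertible L) (R : CycCov.Root L N s π) (hR : CycCov.IsCover R)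
    {m μ : ℕ} (hμ : 1 < μ) (hm : 0 < m) (hN : m * μ = N) (s' : Coh.structureModule X ⟶ CohB1.tensorPow L m)
    (hs' : ∀ (U : X.affineOpens) (e : L.val.obj (op U.1)), CycCov.IsGen L U.1 e →
      ∀ a b : Γ(X, U.1), SecTwist.val s U.1 = a • CycCov.lpow L U.1 e N →
        SecTwist.val s' U.1 = b • CycCov.lpow L U.1 e m → a = b ^ μ) :
    ¬ IrreducibleSpace Y := by
  intro hirr
  obtain ⟨hfin, hnor, W₀, hW₀, hW₀', hbij⟩ := hR
  have hred : IsReduced Y := by
    have : ∀ y : Y, _root_.IsReduced (Y.presheaf.stalk y) := fun y => have := (hnor y).1; inferInstance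
    exact isReduced_of_isReduced_stalk Y
  have hY := isIntegral_of_irreducibleSpace_of_isReduced Y
  obtain ⟨x₀, hx₀⟩ := hW₀.nonempty
  obtain ⟨U, hxU, hU, e, he⟩ := exists_affine_frame hL hx₀
  have : Nonempty U.1 := ⟨⟨x₀, hxU⟩⟩
  have hN0 : 0 < N := hN ▸ Nat.mul_pos hm (zero_lt_one.trans hμ)
  obtain ⟨a, ha⟩ := exists_coord s he
  obtain ⟨b, hb⟩ := exists_coord s' he
  have hab := hs' U e (isGen_of_isFrame he) a b ha hb
  let F : Polynomial Γ(X, U.1) := Polynomial.X ^ N - Polynomial.C a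
  have hF : F.Monic := monic_kummer hN0.ne' a
  let θ := RingEquiv.ofBijective _ (hbij U hU e (isGen_of_isFrame he) a ha)
  have : Nontrivial (AdjoinRoot F) := AdjoinRoot.nontrivial F (by
    rw [Polynomial.degree_X_pow_sub_C hN0]; exact_mod_cast hN0.ne')
  have : Nonempty (π ⁻¹ᵁ U.1 : Y.Opens) := by
    by_contra hc
    have hbot : π ⁻¹ᵁ U.1 = ⊥ := le_bot_iff.mp fun z hz => (hc ⟨⟨z, hz⟩⟩).elim
    have hsub : Subsingleton Γ(Y, π ⁻¹ᵁ U.1) := by rw [hbot]; infer_instance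
    exact not_subsingleton (AdjoinRoot F) θ.toEquiv.subsingleton
  have : IsDomain (AdjoinRoot F) := θ.injective.isDomain θ.toRingHom
  obtain ⟨G, hG⟩ : (Polynomial.X ^ m - Polynomial.C b) ∣ F := by
    show _ ∣ Polynomial.X ^ N - Polynomial.C a
    rw [hab, ← hN, pow_mul, map_pow]
    exact sub_dvd_pow_sub_pow _ _ μ
  have h1 : (Polynomial.X ^ m - Polynomial.C b : Polynomial Γ(X, U.1)).Monic := monic_kummer hm.ne' b
  have hG0 : G ≠ 0 := fun h => hF.ne_zero (by rw [hG, h, mul_zero])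
  have hdeg : N = m + G.natDegree := by
    have := congrArg Polynomial.natDegree hG
    rwa [h1.natDegree_mul' hG0, Polynomial.natDegree_X_pow_sub_C, Polynomial.natDegree_X_pow_sub_C] at this
  have hmN : m < N := hN ▸ lt_mul_of_one_lt_right hm hμ
  have hzero : AdjoinRoot.mk F (Polynomial.X ^ m - Polynomial.C b) * AdjoinRoot.mk F G = 0 := by
    rw [← map_mul, ← hG, AdjoinRoot.mk_self]
  rcases mul_eq_zero.mp hzero with h | h <;> rw [AdjoinRoot.mk_eq_zero] at h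
  · exact hF.not_dvd_of_natDegree_lt h1.ne_zero (by
      rw [Polynomial.natDegree_X_pow_sub_C, Polynomial.natDegree_X_pow_sub_C]; exact hmN) h
  · exact hF.not_dvd_of_natDegree_lt hG0 (by rw [Polynomial.natDegree_X_pow_sub_C]; omega) h

end Groth.Agent.CycCov52
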