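import Groth.Agent.CycCov52.Coord
import Mathlib.AlgebraicGeometry.Morphisms.Etale

/-! The reduced preimage of the branch divisor is a normal crossing divisor. -/

set_option autoImplicit false
set_option linter.style.haveILetI false
universe u

open CategoryTheory AlgebraicGeometry Opposite TopologicalSpace MvPolynomial

noncomputable section

namespace Groth.Agent.CycCov52

open Var76.LineBundle

theorem respectsIso_etale : MorphismProperty.RespectsIso @Etale.{u} :=
  MorphismProperty.IsStableUnderBaseChange.respectsIso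

theorem ι_appTop_topIso {X S : Scheme.{u}} (g : X ⟶ S) (V : X.Opens) :
    (V.ι ≫ g).appTop ≫ V.topIso.hom = g.appLE ⊤ V le_top := by
  simp [Scheme.Opens.topIso, Scheme.Hom.appLE, Category.assoc]
  exact congrArg (g.appTop ≫ ·) ((X.presheaf.map_comp _ _).symm.trans (congrArg X.presheaf.map (Subsingleton.elim _ _)))

theorem exists_coordHom {k : Type u} [Field k] {X : Scheme.{u}} (f : X ⟶ Spec (CommRingCat.of k)) {W : X.Opens}
    {n : ℕ} (v : ULift.{u} (Fin n) → Γ(W, ⊤)) [Etale (AffineSpace.homOfVector (W.ι ≫ f) v)]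
    (U : X.affineOpens) (hU : U.1 ≤ W) :
    ∃ φ : MvPolynomial (ULift.{u} (Fin n)) k →+* Γ(X, U.1), φ.Etale ∧
      (∀ a, φ (MvPolynomial.X a) = LogNCD.sectOn W hU (v a)) ∧
      ∀ c, φ (MvPolynomial.C c) = f.appLE ⊤ U.1 le_top ((Scheme.ΓSpecIso (CommRingCat.of k)).inv c) := by
  have : IsAffine U.1.toScheme := U.2
  have := respectsIso_etale.{u}
  let w : ULift.{u} (Fin n) → Γ(U.1, ⊤) := fun a => (X.homOfLE hU).appTop (v a)
  have hc : AffineSpace.homOfVector (U.1.ι ≫ f) w = X.homOfLE hU ≫ AffineSpace.homOfVector (W.ι ≫ f) v := by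
    apply AffineSpace.hom_ext
    · simp
    · intro a
      rw [AffineSpace.homOfVector_appTop_coord, Scheme.Hom.comp_appTop, CommRingCat.comp_apply,
        AffineSpace.homOfVector_appTop_coord]
  have het' : Etale (AffineSpace.homOfVector (U.1.ι ≫ f) w) := hc ▸ inferInstance
  have hφ : (AffNorm62.coordHom (U.1.ι ≫ f) w).Etale :=
    (HasRingHomProperty.Spec_iff (P := @Etale.{u})).mp ((AffNorm62.property_homOfVector_iff @Etale.{u} _ _).mp het')
  refine ⟨U.1.topIso.commRingCatIsoToRingEquiv.toRingHom.comp (AffNorm62.coordHom (U.1.ι ≫ f) w),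
    RingHom.Etale.respectsIso.1 _ U.1.topIso.commRingCatIsoToRingEquiv hφ, fun a => ?_, fun c => ?_⟩
  · show U.1.topIso.hom (eval₂Hom _ w (MvPolynomial.X a)) = _
    rw [eval₂Hom_X', LogNCD.sectOn_apply]
    exact ConcreteCategory.congr_hom (show (X.homOfLE hU).appTop ≫ U.1.topIso.hom =
      W.topIso.hom ≫ X.presheaf.map (homOfLE hU).op by
        simp [Scheme.Opens.topIso, Scheme.homOfLE_app]
        exact (X.presheaf.map_comp _ _).symm.trans ((congrArg X.presheaf.map (Subsingleton.elim _ _)).trans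
          (X.presheaf.map_comp _ _))) _
  · show U.1.topIso.hom (eval₂Hom _ w (MvPolynomial.C c)) = _
    rw [eval₂Hom_C]
    exact ConcreteCategory.congr_hom (show ((Scheme.ΓSpecIso (CommRingCat.of k)).inv ≫ (U.1.ι ≫ f).appTop) ≫ U.1.topIso.hom =
      (Scheme.ΓSpecIso (CommRingCat.of k)).inv ≫ f.appLE ⊤ U.1 le_top by
        rw [Category.assoc, ι_appTop_topIso]) c

theorem isReduced_quotient_coord {k : Type u} [Field k] {σ : Type u} [Finite σ] {T : Type u} [CommRing T]
    (φ : MvPolynomial σ k →+* T) (hφ : φ.Etale) (i : σ) {n : ℕ} (hn : n ≠ 0) {a : T}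
    (ha : Associated a (φ (MvPolynomial.X i) ^ n)) :
    (Ideal.span {a}).radical = Ideal.span {φ (MvPolynomial.X i)} := by
  have := isRegularRing_quotient_X φ hφ i
  have := isReduced_of_regular (T ⧸ Ideal.span {φ (MvPolynomial.X i)})
  obtain ⟨w, hw⟩ := ha.symm
  rw [← hw, Ideal.span_singleton_mul_right_unit w.isUnit, ← Ideal.span_singleton_pow, Ideal.radical_pow _ hn]
  exact ((Ideal.isRadical_iff_quotient_reduced _).mpr this).radical

variable {X Y : Scheme.{u}} {π : Y ⟶ X}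
variable {L : X.Modules} {N : ℕ} {s : Coh.structureModule X ⟶ CohB1.tensorPow L N}

set_option maxHeartbeats 1000000 in
theorem isNCD_radical_comap {k : Type u} [Field k] [IsAlgClosed k] (f : X ⟶ Spec (CommRingCat.of k)) [Smooth f]
    [IsIntegral X] (hL : PicF.IsInvertible L) (R : CycCov.Root L N s π) (hR : CycCov.IsCover R)
    (hN : 0 < N) (hNk : (N : k) ≠ 0)
    {r : ℕ} {D : Fin r → X.IdealSheafData} (hD : LogNCD.IsNCD D f) {α : Fin r → ℕ}
    (hs : CycCov.IsZeroDiv (CohB1.tensorPow L N) s (CycCov.divIdeal D α))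
    (hdisj : ∀ (x : X) (j j' : Fin r), 0 < α j → 0 < α j' → x ∈ (D j).support → x ∈ (D j').support → j = j') :
    LogNCD.IsNCD (fun j : Fin r => ((D j).comap π).radical) (π ≫ f) := by
  classical
  have : IsFinite π := hR.1
  rintro y ⟨i₀, hi₀⟩
  have hsupp : ∀ i : Fin r, y ∈ ((D i).comap π).radical.support ↔ π y ∈ (D i).support := fun i => by
    rw [Scheme.IdealSheafData.support_radical, Scheme.IdealSheafData.support_comap]
    exact Iff.rfl
  let x : X := π y
  obtain ⟨j₀, hj₀, hoth⟩ : ∃ j₀, x ∈ (D j₀).support ∧ ∀ j', j' ≠ j₀ → 0 < α j' → x ∉ (D j').support := by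
    by_cases h : ∃ j, 0 < α j ∧ x ∈ (D j).support
    · obtain ⟨j, hj, hxj⟩ := h
      exact ⟨j, hxj, fun j' hne hα hx' => hne (hdisj x j' j hα hj hx' hxj)⟩
    · exact ⟨i₀, (hsupp i₀).mp hi₀, fun j' _ hα hx' => h ⟨j', hα, hx'⟩⟩
  obtain ⟨W, hxW, n, v, e, he_inj, het, hideal, htopW⟩ := hD x ⟨⟨j₀, hj₀⟩⟩
  obtain ⟨U, hxU, hUW, eL, heL⟩ := exists_affine_frame hL (W := W) (x := x) hxW
  have : Nonempty U.1 := ⟨⟨x, hxU⟩⟩
  obtain ⟨φ, hφ, hφX, hφC⟩ := exists_coordHom f v U hUW
  let a₀ : ULift.{u} (Fin n) := ULift.up (e ⟨j₀, hj₀⟩)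
  let h : Γ(X, U.1) := φ (MvPolynomial.X a₀)
  have hh : ∀ i : LogNCD.Through D x, (D i.1).ideal U = Ideal.span {φ (MvPolynomial.X (ULift.up (e i)))} :=
    fun i => by rw [hideal i U hUW, hφX]
  have : Nontrivial Γ(X, U.1) := inferInstance
  have h0 : h ≠ 0 := ne_zero_of_etale φ hφ a₀
  have hreg : IsRegularRing (Γ(X, U.1) ⧸ Ideal.span {h}) := isRegularRing_quotient_X φ hφ a₀
  have hI : (CycCov.divIdeal D α).ideal U = Ideal.span {h ^ α j₀} := by
    rw [ideal_divIdeal, Finset.prod_eq_single j₀, hh ⟨j₀, hj₀⟩, Ideal.span_singleton_pow]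
    · intro j' _ hj'
      rcases Nat.eq_zero_or_pos (α j') with h0' | h0'
      · rw [h0', pow_zero]
      · rw [htopW j' (hoth j' hj' h0') U hUW, Ideal.top_pow, Ideal.one_eq_top]
    · exact fun hh => (hh (Finset.mem_univ _)).elim
  obtain ⟨u, hu⟩ := exists_unit_coord hs U heL h (α j₀) h0 hI
  obtain ⟨d, m, a, x', hNd, -, hd, hm, -, θ, hθ⟩ := exists_model R f hR hN hNk U eL heL u h (α j₀) h0 hu
  obtain ⟨hregB, -⟩ := regular_and_closed f U.2
  have hNB := isUnit_natCast_section f U.2 hNk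
  rw [hNd, Nat.cast_mul, IsUnit.mul_iff] at hNB
  letI : Algebra k Γ(X, U.1) := (φ.comp MvPolynomial.C).toAlgebra
  let φA : MvPolynomial (ULift.{u} (Fin n)) k →ₐ[k] Γ(X, U.1) := { φ with commutes' := fun c => rfl }
  obtain ⟨ψ, δ, c, hψi, hψe, hδ, hψT⟩ := exists_etale_coord (B := Γ(X, U.1)) φA hφ a₀ (d := d) (n := m) (x := x')
    u h rfl h0 hd hm hNB.1 hNB.2
  let Rg := CycCov3.Rring (d := d) (n := m) (x := x') u h
  let V₀ : Y.affineOpens := ⟨π ⁻¹ᵁ U.1, U.2.preimage π⟩
  let δ' : Γ(Y, V₀.1) := θ δ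
  let W' : Y.affineOpens := ⟨Y.basicOpen δ', V₀.2.basicOpen δ'⟩
  have hW'V : W'.1 ≤ V₀.1 := Y.basicOpen_le δ'
  have hθ' : ∀ b : Γ(X, U.1), θ (algebraMap Γ(X, U.1) Rg b) = π.app U.1 b := fun b => DFunLike.congr_fun hθ b
  -- the point lies in the chart
  have hyV : y ∈ V₀.1 := hxU
  have hyW' : y ∈ W'.1 := by
    show y ∈ Y.basicOpen (θ δ)
    rw [Y.mem_basicOpen _ y hyV, hδ, map_add θ, map_add (Y.presheaf.germ V₀.1 y hyV).hom, map_mul θ, map_mul (Y.presheaf.germ V₀.1 y hyV).hom, hθ']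
    have hw : IsUnit ((Y.presheaf.germ V₀.1 y hyV).hom (θ (algebraMap (CycCov3.Sring d u) Rg (CycCov3.wS d u ^ x')))) :=
      ((((CycCov3.isUnit_wS u hd).pow x').map _).map θ).map _
    have hnu : ¬ IsUnit ((Y.presheaf.germ V₀.1 y hyV).hom (π.app U.1 h)) := fun hu' => by
      have h1 : y ∈ Y.basicOpen (π.app U.1 h) := (Y.mem_basicOpen _ y hyV).mpr hu'
      rw [← Scheme.preimage_basicOpen] at h1
      have h2 := (Scheme.IdealSheafData.mem_support_iff_of_mem (I := D j₀) hxU).mp hj₀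
      rw [hh ⟨j₀, hj₀⟩, Scheme.zeroLocus_span] at h2
      exact (by simpa [Scheme.zeroLocus_singleton] using h2 : x ∉ X.basicOpen h) h1
    refine (IsLocalRing.notMem_maximalIdeal).mp fun hmem => (IsLocalRing.notMem_maximalIdeal.mpr hw) ?_
    exact (Ideal.add_mem_iff_left _ (Ideal.mul_mem_right _ _ ((IsLocalRing.mem_maximalIdeal _).mpr hnu))).mp hmem
  -- the coordinates on the chart
  let res : Γ(Y, V₀.1) →+* Γ(Y, W'.1) := (Y.presheaf.map (homOfLE hW'V).op).hom
  letI : Algebra Rg Γ(Y, W'.1) := (res.comp θ.toRingHom).toAlgebra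
  have hloc : IsLocalization.Away δ Γ(Y, W'.1) := by
    letI : Algebra Γ(Y, V₀.1) Γ(Y, W'.1) := res.toAlgebra
    have : IsLocalization.Away δ' Γ(Y, W'.1) := V₀.2.isLocalization_of_eq_basicOpen δ' _ rfl
    have h1 := IsLocalization.isLocalization_of_base_ringEquiv (Submonoid.powers δ') Γ(Y, W'.1) θ.symm
    rw [Submonoid.map_powers] at h1
    have h2 : θ.symm δ' = δ := θ.symm_apply_apply δ
    rw [h2] at h1
    exact h1
  let ψT : MvPolynomial (ULift.{u} (Fin n)) k →+* Γ(Y, W'.1) := (algebraMap Rg Γ(Y, W'.1)).comp ψ.toRingHom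
  have hψT' : ψT.Etale := hψT Γ(Y, W'.1)
  have hψX : ∀ b, b ≠ a₀ → ψT (MvPolynomial.X b) = res (π.app U.1 (φ (MvPolynomial.X b))) := fun b hb => by
    show res (θ (ψ (MvPolynomial.X b))) = _
    rw [hψi b hb, hθ']
    rfl
  have hψh : Associated (res (π.app U.1 h)) (ψT (MvPolynomial.X a₀) ^ m) := by
    show Associated _ (res (θ (ψ (MvPolynomial.X a₀))) ^ m)
    rw [hψe, ← map_pow, ← map_pow, CycCov3.root_pow hm, map_mul (algebraMap (CycCov3.Sring d u) Rg),
      ← IsScalarTower.algebraMap_apply Γ(X, U.1) (CycCov3.Sring d u) Rg, map_mul θ, hθ', map_mul res]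
    exact associated_unit_mul_right _ _ (((((CycCov3.isUnit_wS u hd).pow x').map _).map θ).map res)
  have hradW' : ∀ i : LogNCD.Through D x,
      (((D i.1).comap π).radical).ideal W' = Ideal.span {ψT (MvPolynomial.X (ULift.up (e i)))} := by
    intro i
    have hmap : ((D i.1).comap π).ideal W' = Ideal.span {res (π.app U.1 (φ (MvPolynomial.X (ULift.up (e i)))))} := by
      rw [← ((D i.1).comap π).map_ideal (U := W') (V := V₀) hW'V, QC70.ideal_comap_preimage, hh i, Ideal.map_span,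
        Set.image_singleton, Ideal.map_span, Set.image_singleton]
      rfl
    rw [Scheme.IdealSheafData.radical_ideal, hmap]
    by_cases hi : i = ⟨j₀, hj₀⟩
    · subst hi
      exact isReduced_quotient_coord ψT hψT' a₀ hm.ne' hψh
    · have hne : (ULift.up (e i) : ULift.{u} (Fin n)) ≠ a₀ := fun hh => hi (he_inj (congrArg ULift.down hh))
      refine isReduced_quotient_coord ψT hψT' _ one_ne_zero ?_
      rw [pow_one, hψX _ hne]
  let v' : ULift.{u} (Fin n) → Γ(W'.1, ⊤) := fun b => W'.1.topIso.inv (ψT (MvPolynomial.X b))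
  refine ⟨W'.1, hyW', n, v', fun i => e ⟨i.1, (hsupp i.1).mp i.2⟩, fun i j hij => ?_, ?_, fun i V hV => ?_,
    fun i hi V hV => ?_⟩
  · have hij' := congrArg (fun t : LogNCD.Through D x => t.1) (he_inj hij)
    exact Subtype.ext hij'
  · have : IsAffine W'.1.toScheme := W'.2
    have := respectsIso_etale.{u}
    refine (AffNorm62.property_homOfVector_iff @Etale.{u} _ _).mpr ((HasRingHomProperty.Spec_iff (P := @Etale.{u})).mpr ?_)
    have heq : W'.1.topIso.symm.commRingCatIsoToRingEquiv.toRingHom.comp ψT =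
        AffNorm62.coordHom (W'.1.ι ≫ π ≫ f) v' := by
      apply MvPolynomial.ringHom_ext
      · intro c
        show W'.1.topIso.inv (res (θ (ψ (MvPolynomial.C c)))) = eval₂Hom _ v' (MvPolynomial.C c)
        rw [eval₂Hom_C, ← MvPolynomial.algebraMap_eq, ψ.commutes,
          IsScalarTower.algebraMap_apply k Γ(X, U.1) Rg, hθ', show algebraMap k Γ(X, U.1) c = φ (MvPolynomial.C c) from rfl,
          hφC]
        exact ConcreteCategory.congr_hom (show (Scheme.ΓSpecIso (CommRingCat.of k)).inv ≫ f.appLE ⊤ U.1 le_top ≫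
            π.app U.1 ≫ Y.presheaf.map (homOfLE hW'V).op ≫ W'.1.topIso.inv =
          (Scheme.ΓSpecIso (CommRingCat.of k)).inv ≫ (W'.1.ι ≫ π ≫ f).appTop by
            rw [← cancel_mono W'.1.topIso.hom]
            simp only [Category.assoc, Iso.inv_hom_id, Category.comp_id, ι_appTop_topIso]
            simp only [π.app_eq_appLE, Scheme.Hom.appLE_map]
            exact congrArg ((Scheme.ΓSpecIso (CommRingCat.of k)).inv ≫ ·) (π.appLE_comp_appLE f ⊤ U.1 W'.1 le_top hW'V)) c
      · intro b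
        show W'.1.topIso.inv (ψT (MvPolynomial.X b)) = eval₂Hom _ v' (MvPolynomial.X b)
        rw [eval₂Hom_X']
    exact heq ▸ RingHom.Etale.respectsIso.1 _ W'.1.topIso.symm.commRingCatIsoToRingEquiv hψT'
  · show (((D i.1).comap π).radical).ideal V = _
    rw [← (((D i.1).comap π).radical).map_ideal (U := V) (V := W') hV, hradW' ⟨i.1, (hsupp i.1).mp i.2⟩,
      Ideal.map_span, Set.image_singleton, LogNCD.sectOn_apply]
    congr 2
    exact congrArg (Y.presheaf.map (homOfLE hV).op) (ConcreteCategory.congr_hom W'.1.topIso.inv_hom_id _).symm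
  · show (((D i).comap π).radical).ideal V = ⊤
    have hxi : x ∉ (D i).support := fun hh => hi ((hsupp i).mpr hh)
    rw [← (((D i).comap π).radical).map_ideal (U := V) (V := V₀) (le_trans hV hW'V),
      Scheme.IdealSheafData.radical_ideal, QC70.ideal_comap_preimage, htopW i hxi U hUW, Ideal.map_top,
      Ideal.radical_top, Ideal.map_top]

end Groth.Agent.CycCov52
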