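import Groth.Agent.CycCov52.Divisor
import Groth.Agent.CycCov52.Irreducible
import Groth.Agent.CycCov52.NCDCover
import Groth.Agent.CycCov52.Eigen
import Groth.Agent.Curves2.IdealFrame
import Groth.Agent.Inv57.OfTensor
import Groth.Agent.Amp73.FrameGlue
import Groth.Agent.FMK72.BaseChange

/-! The decomposition of the direct image of the structure sheaf of a cyclic cover. -/

set_option autoImplicit false
set_option linter.style.haveILetI false
universe u

open CategoryTheory CategoryTheory.Limits AlgebraicGeometry Opposite TopologicalSpace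

noncomputable section

namespace Groth.Agent.CycCov52

open Var76.LineBundle

variable {X Y : Scheme.{u}} {π : Y ⟶ X}
variable {L : X.Modules} {N : ℕ} {s : Coh.structureModule X ⟶ CohB1.tensorPow L N}

/-- The map of functions to the cover, restricted. -/
theorem app_res_comm {U V : X.Opens} (h : V ≤ U) (a : Γ(X, U)) :
    Y.presheaf.map (homOfLE (π.preimage_mono h)).op (π.app U a) = π.app V (X.presheaf.map (homOfLE h).op a) :=
  (ConcreteCategory.congr_hom (π.naturality (homOfLE h).op) a).symm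

/-- A chart adapted to the divisor. -/
structure DChart (L : X.Modules) {r : ℕ} (D : Fin r → X.IdealSheafData) where
  U : X.affineOpens
  ne : Nonempty U.1
  e : Γ(L, U.1)
  he : IsFrame L U.1 e
  h : Fin r → Γ(X, U.1)
  h0 : ∀ j, h j ≠ 0
  hD : ∀ j, (D j).ideal U = Ideal.span {h j}
  rad : (Ideal.span {∏ j, h j}).IsRadical

theorem exists_dchart {k : Type u} [Field k] [IsIntegral X] (f : X ⟶ Spec (CommRingCat.of k))
    (hL : PicF.IsInvertible L) {r : ℕ} (D : Fin r → X.IdealSheafData) (hD : LogNCD.IsNCD D f)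
    {x : X} {W : X.Opens} (hxW : x ∈ W) : ∃ C : DChart L D, x ∈ C.U.1 ∧ C.U.1 ≤ W := by
  classical
  by_cases hne : Nonempty (LogNCD.Through D x)
  · obtain ⟨W₁, hxW₁, n, v, e, he_inj, het, hideal, htop⟩ := hD x hne
    obtain ⟨U, hxU, hUle, eL, heL⟩ := exists_affine_frame hL (W := W ⊓ W₁) (x := x) ⟨hxW, hxW₁⟩
    have : Nonempty U.1 := ⟨⟨x, hxU⟩⟩
    have hUW : U.1 ≤ W₁ := hUle.trans inf_le_right
    obtain ⟨φ, hφ, hφX, -⟩ := exists_coordHom f v U hUW
    let g : ULift.{u} (Fin n) → Γ(X, U.1) := fun a => φ (MvPolynomial.X a)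
    let h : Fin r → Γ(X, U.1) := fun j => if hj : x ∈ (D j).support then g ⟨e ⟨j, hj⟩⟩ else 1
    refine ⟨⟨U, inferInstance, eL, heL, h, fun j => ?_, fun j => ?_, ?_⟩, hxU, hUle.trans inf_le_left⟩
    · by_cases hj : x ∈ (D j).support
      · simp only [h, dif_pos hj]; exact ne_zero_of_etale φ hφ _
      · simp only [h, dif_neg hj]; exact one_ne_zero
    · by_cases hj : x ∈ (D j).support
      · simp only [h, dif_pos hj, g, hφX]; exact hideal ⟨j, hj⟩ U hUW
      · simp only [h, dif_neg hj, Ideal.span_singleton_one]; exact htop j hj U hUW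
    · let ι : LogNCD.Through D x → ULift.{u} (Fin n) := fun i => ⟨e i⟩
      have hι : Function.Injective ι := fun a b hab => he_inj (congrArg ULift.down hab)
      have : Fintype (LogNCD.Through D x) := Fintype.ofInjective ι hι
      have hprod : ∏ j, h j = ∏ a ∈ Finset.univ.image ι, φ (MvPolynomial.X a) := by
        rw [Finset.prod_image fun a _ b _ hab => hι hab]
        refine (Finset.prod_of_injOn (fun i : LogNCD.Through D x => i.1) (fun a _ b _ hab => Subtype.ext hab)
          (fun a _ => Finset.mem_univ _) (fun j _ hj => ?_) (fun i _ => ?_)).symm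
        · have hj' : x ∉ (D j).support := fun h => hj ⟨⟨j, h⟩, Finset.mem_coe.mpr (Finset.mem_univ _), rfl⟩
          simp only [h, dif_neg hj']
        · simp only [h, dif_pos i.2]; rfl
      rw [hprod]
      exact isRadical_span_prod_coord φ hφ _
  · have hxj : ∀ j, x ∉ (D j).support := fun j hj => hne ⟨⟨j, hj⟩⟩
    obtain ⟨U, hxU, hUle, eL, heL⟩ := exists_affine_frame hL (W := W ⊓ avoid D Finset.univ) (x := x)
      ⟨hxW, mem_avoid.mpr fun j _ => hxj j⟩
    have : Nonempty U.1 := ⟨⟨x, hxU⟩⟩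
    refine ⟨⟨U, inferInstance, eL, heL, fun _ => 1, fun _ => one_ne_zero, fun j => ?_, ?_⟩, hxU, hUle.trans inf_le_left⟩
    · rw [Ideal.span_singleton_one]
      exact ideal_eq_top_of_disjoint _ _ fun z hz => mem_avoid.mp (hUle hz).2 j (Finset.mem_univ _)
    · rw [Finset.prod_const_one, Ideal.span_singleton_one]
      exact fun z _ => trivial

variable {r : ℕ} {D : Fin r → X.IdealSheafData}

/-- The equation of the integral part. -/
def DChart.gen (C : DChart L D) (α : Fin r → ℕ) (N i : ℕ) : Γ(X, C.U.1) := ∏ j, C.h j ^ (i * α j / N)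

theorem DChart.ideal_floor (C : DChart L D) (α : Fin r → ℕ) (N i : ℕ) :
    (CycCov.floorIdeal D α N i).ideal C.U = Ideal.span {C.gen α N i} := by
  rw [CycCov.floorIdeal, ideal_divIdeal, DChart.gen, ← Ideal.prod_span_singleton]
  simp only [C.hD, Ideal.span_singleton_pow]

theorem DChart.gen_ne_zero [IsIntegral X] (C : DChart L D) (α : Fin r → ℕ) (N i : ℕ) : C.gen α N i ≠ 0 :=
  have := C.ne
  Finset.prod_ne_zero_iff.mpr fun j _ => pow_ne_zero _ (C.h0 j)

theorem DChart.exists_unit [IsIntegral X] (C : DChart L D) (α : Fin r → ℕ)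
    (hs : CycCov.IsZeroDiv (CohB1.tensorPow L N) s (CycCov.divIdeal D α)) :
    ∃ u : Γ(X, C.U.1)ˣ, SecTwist.val s C.U.1 = ((u : Γ(X, C.U.1)) * ∏ j, C.h j ^ α j) • CycCov.lpow L C.U.1 C.e N := by
  have := C.ne
  obtain ⟨u, hu⟩ := exists_unit_coord hs C.U C.he (∏ j, C.h j ^ α j) 1
    (Finset.prod_ne_zero_iff.mpr fun j _ => pow_ne_zero _ (C.h0 j)) (by
      rw [pow_one, ideal_divIdeal, ← Ideal.prod_span_singleton]
      simp only [C.hD, Ideal.span_singleton_pow])
  exact ⟨u, by rwa [pow_one] at hu⟩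

theorem scaleRoots_kummer {A : Type*} [CommRing A] {N : ℕ} (hN : 0 < N) (a g : A) (t : A) :
    ((Polynomial.X ^ N - Polynomial.C a).scaleRoots g).eval t = t ^ N - a * g ^ N := by
  nontriviality A
  have : (Polynomial.X ^ N - Polynomial.C a).scaleRoots g = Polynomial.X ^ N - Polynomial.C (a * g ^ N) := by
    ext n
    rw [Polynomial.coeff_scaleRoots, Polynomial.natDegree_X_pow_sub_C]
    simp only [Polynomial.coeff_sub, Polynomial.coeff_X_pow, Polynomial.coeff_C]
    rcases eq_or_ne n N with h | h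
    · subst h; simp [hN.ne']
    · rcases eq_or_ne n 0 with h0 | h0
      · subst h0; simp [hN.ne]
      · simp [h, h0]
  rw [this]
  simp

section Cover

variable [IsIntegral X] (R : CycCov.Root L N s π) (hR : CycCov.IsCover R) (hN : 0 < N)
include hR hN

theorem cancel_app (U : X.affineOpens) [Nonempty U.1] {e : Γ(L, U.1)} (he : IsFrame L U.1 e)
    {a : Γ(X, U.1)} (ha : a ≠ 0) {y y' : Γ(Y, π ⁻¹ᵁ U.1)} (h : y * π.app U.1 a = y' * π.app U.1 a) : y = y' := by
  obtain ⟨hfin, hnor, W₀, hW₀, hW₀', hbij⟩ := hR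
  have : IsReduced Y := by
    have : ∀ y : Y, _root_.IsReduced (Y.presheaf.stalk y) := fun y => have := (hnor y).1; inferInstance
    exact isReduced_of_isReduced_stalk Y
  obtain ⟨f, hf⟩ := exists_coord s he
  have hne : Nonempty (X.basicOpen a) := by
    by_contra hc
    exact ha ((basicOpen_eq_bot_iff a).mp (le_bot_iff.mp fun z hz => (hc ⟨⟨z, hz⟩⟩).elim))
  refine res_injective R U hN.ne' W₀ hW₀' hbij e he f hf a hne ?_
  have hu : IsUnit (Y.presheaf.map (homOfLE (π.preimage_mono (X.basicOpen_le a))).op (π.app U.1 a)) := by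
    rw [app_res_comm]
    exact (RingedSpace.isUnit_res_basicOpen _ a).map _
  refine hu.mul_right_cancel ?_
  rw [← map_mul, ← map_mul, h]

variable {k : Type u} [Field k] (sf : X ⟶ Spec (CommRingCat.of k)) [Smooth sf]

omit hR hN in
theorem exists_basicOpen_le {W₀ : X.Opens} (hW₀ : Dense (W₀ : Set X)) (U : X.affineOpens) [Nonempty U.1] :
    ∃ p : Γ(X, U.1), Nonempty (X.basicOpen p) ∧ X.basicOpen p ≤ W₀ := by
  obtain ⟨⟨x, hx⟩⟩ := ‹Nonempty U.1›
  obtain ⟨z, hzU, hzW⟩ := hW₀.inter_open_nonempty _ U.1.isOpen ⟨x, hx⟩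
  obtain ⟨p, hp, hzp⟩ := U.2.exists_basicOpen_le ⟨z, hzW⟩ hzU
  exact ⟨p, ⟨⟨z, hzp⟩⟩, hp⟩

variable (α : Fin r → ℕ) (hs : CycCov.IsZeroDiv (CohB1.tensorPow L N) s (CycCov.divIdeal D α))
include hs

theorem exists_z (C : DChart L D) (i : ℕ) :
    ∃ z : Γ(Y, π ⁻¹ᵁ C.U.1), z * π.app C.U.1 (C.gen α N i) = R.t C.U C.e (isGen_of_isFrame C.he) ^ i := by
  classical
  have := C.ne
  obtain ⟨u, hu⟩ := C.exists_unit α hs
  let g := C.gen α N i
  let t := R.t C.U C.e (isGen_of_isFrame C.he)
  let f : Γ(X, C.U.1) := (u : Γ(X, C.U.1)) * ∏ j, C.h j ^ α j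
  let a : Γ(X, C.U.1) := (u : Γ(X, C.U.1)) ^ i * ∏ j, C.h j ^ (i * α j % N)
  have hfg : f ^ i = a * g ^ N := by
    show ((u : Γ(X, C.U.1)) * _) ^ i = _
    simp only [a, g, DChart.gen]
    rw [mul_pow, mul_assoc, ← Finset.prod_pow, ← Finset.prod_pow, ← Finset.prod_mul_distrib]
    congr 1
    refine Finset.prod_congr rfl fun j _ => ?_
    rw [← pow_mul, ← pow_mul, ← pow_add]
    congr 1
    rw [mul_comm (α j), mul_comm _ N, Nat.mod_add_div]
  have hV : IsAffineOpen (π ⁻¹ᵁ C.U.1) := have := hR.1; C.U.2.preimage π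
  have hgnzd : π.app C.U.1 g ∈ nonZeroDivisors Γ(Y, π ⁻¹ᵁ C.U.1) :=
    mem_nonZeroDivisors_iff_right.mpr fun y hy =>
      cancel_app R hR hN C.U C.he (C.gen_ne_zero α N i) (by rw [hy, zero_mul])
  obtain ⟨z, hz⟩ := dvd_of_scaleRoots_normal (r := t ^ i) (fun M _ => normal_localization hR.2.1 hV M) hgnzd
    (Polynomial.monic_X_pow_sub_C (π.app C.U.1 a) hN.ne') (by
      rw [scaleRoots_kummer hN, ← pow_mul, mul_comm, pow_mul, R.pow_eq C.U C.e (isGen_of_isFrame C.he) f hu]
      show π.app C.U.1 f ^ i - _ = 0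
      rw [← map_pow, hfg, map_mul, map_pow, sub_self])
  exact ⟨z, by rw [mul_comm]; exact hz.symm⟩

variable [IsAlgClosed k] (hNk : (N : k) ≠ 0)
include hNk sf

theorem bijective_eigen (C : DChart L D) (z : Fin N → Γ(Y, π ⁻¹ᵁ C.U.1))
    (hz : ∀ i : Fin N, z i * π.app C.U.1 (C.gen α N i) = R.t C.U C.e (isGen_of_isFrame C.he) ^ (i : ℕ)) :
    Function.Bijective fun a : Fin N → Γ(X, C.U.1) => ∑ i, π.app C.U.1 (a i) * z i := by
  classical
  have := C.ne
  obtain ⟨u, hu⟩ := C.exists_unit α hs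
  obtain ⟨hfin, hnor, W₀, hW₀, hW₀', hbij⟩ := id hR
  have : IsReduced Y := by
    have : ∀ y : Y, _root_.IsReduced (Y.presheaf.stalk y) := fun y => have := (hnor y).1; inferInstance
    exact isReduced_of_isReduced_stalk Y
  obtain ⟨p, hpne, hpW⟩ := exists_basicOpen_le hW₀ C.U
  let U := C.U
  let V : X.affineOpens := ⟨X.basicOpen p, U.2.basicOpen p⟩
  have : Nonempty V.1 := hpne
  have hVU : V.1 ≤ U.1 := X.basicOpen_le p
  let ρ := (X.presheaf.map (homOfLE hVU).op).hom
  have hρ : Function.Injective ρ := map_injective_of_isIntegral X _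
  let res' := (Y.presheaf.map (homOfLE (π.preimage_mono hVU)).op).hom
  have hres : Function.Injective res' :=
    res_injective R U hN.ne' W₀ hW₀' hbij C.e C.he _ hu p hpne
  have hfV := coord_res s hVU hu
  have heV := isGen_of_isFrame (C.he.res hVU)
  let q : Polynomial Γ(X, V.1) := Polynomial.X ^ N - Polynomial.C (ρ ((u : Γ(X, U.1)) * ∏ j, C.h j ^ α j))
  let φV : AdjoinRoot q ≃+* Γ(Y, π ⁻¹ᵁ V.1) := RingEquiv.ofBijective _ (hbij V hpW _ heV _ hfV)
  let t' := R.t V (res L hVU C.e) heV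
  have ht' : res' (R.t U C.e (isGen_of_isFrame C.he)) = t' := R.t_res U V hVU C.e _ heV
  have hz' : ∀ i : Fin N, res' (z i) * π.app V.1 (ρ (C.gen α N i)) = t' ^ (i : ℕ) := fun i => by
    have h := congrArg res' (hz i)
    rw [map_mul, map_pow, ht'] at h
    rw [← h]
    exact congrArg _ (app_res_comm hVU _).symm
  have hφroot : φV (AdjoinRoot.root q) = t' := by
    show CycCov.chart R V _ heV _ hfV (AdjoinRoot.root _) = t'
    exact AdjoinRoot.lift_root _
  have hφof : ∀ c, φV (AdjoinRoot.of q c) = π.app V.1 c := fun c => by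
    show CycCov.chart R V _ heV _ hfV (AdjoinRoot.of _ c) = _
    exact AdjoinRoot.lift_of _
  constructor
  · let Ψ : (Fin N → Γ(X, U.1)) →+ Γ(Y, π ⁻¹ᵁ U.1) :=
      { toFun := fun a => ∑ i, π.app U.1 (a i) * z i
        map_zero' := by simp
        map_add' := fun a b => by simp only [Pi.add_apply, map_add, add_mul, Finset.sum_add_distrib] }
    show Function.Injective Ψ
    rw [injective_iff_map_eq_zero]
    intro a ha
    let G : Fin N → Γ(X, U.1) := fun i => a i * ∏ l ∈ Finset.univ.erase i, C.gen α N l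
    let P : Polynomial Γ(X, V.1) := ∑ i : Fin N, Polynomial.C (ρ (G i)) * Polynomial.X ^ (i : ℕ)
    have h0 : φV (AdjoinRoot.mk _ P) = 0 := by
      simp only [P, map_sum, map_mul, map_pow, AdjoinRoot.mk_C, AdjoinRoot.mk_X, hφroot, hφof]
      have h := congrArg (fun y => res' y * π.app V.1 (ρ (∏ l : Fin N, C.gen α N l))) ha
      dsimp only [Ψ, AddMonoidHom.coe_mk, ZeroHom.coe_mk] at h
      rw [map_zero res', zero_mul, map_sum res', Finset.sum_mul] at h
      refine Eq.trans (Finset.sum_congr rfl fun i _ => ?_) h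
      rw [← Finset.mul_prod_erase Finset.univ _ (Finset.mem_univ i), map_mul ρ, map_mul (π.app V.1).hom, map_mul res',
        show res' (π.app U.1 (a i)) = π.app V.1 (ρ (a i)) from app_res_comm hVU _, ← hz' i]
      simp only [G, map_mul]
      ring
    rw [← map_zero φV, φV.injective.eq_iff, AdjoinRoot.mk_eq_zero] at h0
    have hP : P = 0 := by
      by_contra hP
      refine (monic_kummer hN.ne' _).not_dvd_of_natDegree_lt hP ?_ h0
      rw [Polynomial.natDegree_X_pow_sub_C]
      have : P.natDegree ≤ N - 1 := Polynomial.natDegree_sum_le_of_forall_le _ _ fun i _ =>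
        (Polynomial.natDegree_C_mul_X_pow_le _ _).trans (by have := i.2; omega)
      omega
    funext i
    have h1 := congrArg (fun q => Polynomial.coeff q (i : ℕ)) hP
    simp only [P, Polynomial.finsetSum_coeff, Polynomial.coeff_C_mul_X_pow, Polynomial.coeff_zero] at h1
    rw [Finset.sum_eq_single i (fun l _ hl => if_neg fun h => hl (Fin.ext h.symm)) (fun h => (h (Finset.mem_univ _)).elim),
      if_pos rfl, map_eq_zero_iff _ hρ] at h1
    exact (mul_eq_zero.mp h1).resolve_right (Finset.prod_ne_zero_iff.mpr fun l _ => C.gen_ne_zero α N l)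
  · intro y
    obtain ⟨-, _⟩ := regular_and_closed sf U.2
    letI : Algebra Γ(X, U.1) Γ(X, V.1) := ρ.toAlgebra
    let ψ : Γ(Y, π ⁻¹ᵁ U.1) →+* AdjoinRoot (Polynomial.X ^ N - Polynomial.C (ρ ((u : Γ(X, U.1)) * ∏ j, C.h j ^ α j))) :=
      φV.symm.toRingHom.comp res'
    have hψ : ψ.comp (π.app U.1).hom = algebraMap Γ(X, U.1) _ := by
      ext a
      show φV.symm (res' (π.app U.1 a)) = _
      rw [RingEquiv.symm_apply_eq, IsScalarTower.algebraMap_apply Γ(X, U.1) Γ(X, V.1), AdjoinRoot.algebraMap_eq, hφof]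
      exact app_res_comm hVU a
    have hy : IsIntegral Γ(X, U.1) (ψ y) := by
      have h := ((π.finite_app U.1 U.2).to_isIntegral y).map ψ
      rw [hψ] at h
      exact h
    have hk0 : NeZero (N : k) := ⟨hNk⟩
    obtain ⟨ζ, hζ⟩ := HasEnoughRootsOfUnity.exists_primitiveRoot k N
    let φk : k →+* Γ(X, U.1) := (Spec.preimage (U.2.fromSpec ≫ sf)).hom
    have hK : ∀ w : Γ(X, V.1), IsIntegral Γ(X, U.1) w → ∃ b, algebraMap Γ(X, U.1) Γ(X, V.1) b = w :=
      fun w hw => exists_eq_of_isIntegral_res U.2 hVU w hw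
    obtain ⟨c, hc, hcb⟩ := exists_coeff_eq hN (isUnit_natCast_section sf U.2 hNk)
      (hζ.map_of_injective φk.injective) _ hK (ψ y) hy
    have hw : ∀ i : Fin N, ∃ w, ρ w = c i * ρ (C.gen α N i) := fun i => by
      obtain ⟨b, hb⟩ := hcb i
      refine exists_eq_of_pow_mul_eq (A := Γ(X, U.1)) hρ hK Finset.univ C.h C.rad
        (Finset.prod_ne_zero_iff.mpr fun j _ => C.h0 j) (fun j => (i : ℕ) * α j % N) hN
        (fun j => Nat.mod_lt _ hN) _ (b * ((↑u⁻¹ : Γ(X, U.1)) ^ (i : ℕ))) ?_
      rw [map_mul, hb]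
      show (c i * ρ _) ^ N * ρ _ = c i ^ N * ρ _ ^ (i : ℕ) * ρ _
      simp only [← map_pow, mul_pow, mul_assoc, ← map_mul]
      congr 2
      rw [mul_left_comm, ← mul_pow (u : Γ(X, U.1)), Units.mul_inv, one_pow, mul_one, DChart.gen, ← Finset.prod_pow,
        ← Finset.prod_pow, ← Finset.prod_mul_distrib]
      refine Finset.prod_congr rfl fun j _ => ?_
      rw [← pow_mul, ← pow_mul, ← pow_add]
      congr 1
      rw [mul_comm (α j), mul_comm _ N, Nat.div_add_mod]
    choose w hw using hw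
    refine ⟨w, hres ?_⟩
    show res' (∑ i, π.app U.1 (w i) * z i) = res' y
    have h1 : res' y = φV (ψ y) := (φV.apply_symm_apply _).symm
    rw [h1, hc, map_sum res', map_sum φV]
    refine Finset.sum_congr rfl fun i _ => ?_
    rw [map_mul res', show res' (π.app U.1 (w i)) = π.app V.1 (ρ (w i)) from app_res_comm hVU _, map_mul φV,
      map_pow φV, hφroot, hφof, hw, ← hz' i, map_mul (π.app V.1).hom]
    ring

end Cover

/-- Evaluation at a section, additive in the morphism. -/
def appAt {M P : X.Modules} (U : X.Opens) (m : Γ(M, U)) : (M ⟶ P) →+ Γ(P, U) :=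
  AddMonoidHom.mk' (fun φ => φ.app U m) fun φ ψ => by rw [Scheme.Modules.Hom.add_app]; rfl

theorem exists_isColimit_cofan_pushforward {k : Type u} [Field k] [IsAlgClosed k] [IsIntegral X]
    (sf : X ⟶ Spec (CommRingCat.of k)) [Smooth sf] (hL : PicF.IsInvertible L) (hN : 0 < N) (hNk : (N : k) ≠ 0)
    (α : Fin r → ℕ) (hD : LogNCD.IsNCD D sf)
    (hs : CycCov.IsZeroDiv (CohB1.tensorPow L N) s (CycCov.divIdeal D α))
    (R : CycCov.Root L N s π) (hR : CycCov.IsCover R)
    (M : Fin N → X.Modules) (hM : ∀ i : Fin N, ClSub.IsInverseOf (CycCov.intPart L D α N i) (M i)) :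
    ∃ c : ∀ i : Fin N, M i ⟶ (Scheme.Modules.pushforward π).obj (Coh.structureModule Y),
      Nonempty (IsColimit (Cofan.mk ((Scheme.Modules.pushforward π).obj (Coh.structureModule Y)) c)) := by
  classical
  let P := (Scheme.Modules.pushforward π).obj (Coh.structureModule Y)
  let ε := fun i => (hM i).some
  -- the frames of the integral parts
  have hms : ∀ (C : DChart L D) (i : Fin N), ∃ m : Γ(ClSub.idealMod (CycCov.floorIdeal D α N i), C.U.1),
      OmegaSh.idealSect (CycCov.floorIdeal D α N i) C.U.1 m = C.gen α N i ∧ IsFrame _ C.U.1 m := fun C i => by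
    obtain ⟨m, hm⟩ := Curves2.exists_idealSect_of_mem _ C.U ((C.ideal_floor α N i).ge (Ideal.mem_span_singleton_self _))
    have := C.ne
    exact ⟨m, hm, Curves2.isFrame_of_span _ C.U (mem_nonZeroDivisors_of_ne_zero (C.gen_ne_zero α N i))
      (C.ideal_floor α N i) m hm⟩
  choose ms hms hmsf using hms
  let w : ∀ (C : DChart L D) (i : Fin N), Γ(CycCov.intPart L D α N i, C.U.1) := fun C i =>
    Amp73.tm _ _ (Amp73.epow C.e i) (ms C i)
  have hm : ∀ (C : DChart L D) (i : Fin N), ∃ m : Γ(M i, C.U.1), IsFrame (M i) C.U.1 m ∧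
      (ε i).hom.app C.U.1 (Amp73.tm _ _ (w C i) m) = ((1 : Γ(X, C.U.1)) : Γ(Coh.structureModule X, C.U.1)) := by
    intro C i
    have hwf : IsFrame _ C.U.1 (w C i) := Amp73.isFrame_tm (Amp73.isFrame_epow C.he i) (hmsf C i)
    have hinv : PicF.IsInvertible (M i) :=
      Inv57.isInvertible_of_tensorMod_iso (EGA73.tensComm _ _ ≪≫ ε i)
    let J := CycCov.intPart L D α N i
    let S : Mero90.Pairing J (M i) (CohB1.tensorMod (M i) J) :=
      { b := fun U a c => Amp73.tm (M i) J c a
        add_left := fun U a a' c => Amp73.tm_add_right c a a'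
        add_right := fun U a c c' => Amp73.tm_add_left c c' a
        smul_left := fun U q a c => Amp73.tm_smul_right q c a
        smul_right := fun U q a c => Amp73.tm_smul_left q c a
        nat := fun U V h a c => (Amp73.res_tm h c a).symm }
    have hJ : PicF.IsInvertible J := Inv57.isInvertible_of_tensorMod_iso (ε i)
    have : IsIso S.lift := S.isIso_lift fun x => by
      obtain ⟨V, hxV, e₁, he₁⟩ := Mero90.exists_frame' hJ x
      obtain ⟨W, hxW, hWV, e₂, he₂⟩ := Mero90.exists_affine_frame hinv x V hxV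
      exact ⟨W.1, _, e₂, hxW, he₁.res hWV, he₂, Amp73.isFrame_tm he₂ (he₁.res hWV)⟩
    let one : Γ(Coh.structureModule X, C.U.1) := (1 : Γ(X, C.U.1))
    obtain ⟨m, hm⟩ := Amp73.exists_eq_tm_frame (L := M i) hwf le_rfl (S.lift.app C.U.1 ((ε i).inv.app C.U.1 one))
    rw [Amp73.res_self] at hm
    have hinj : Function.Injective (S.lift.app C.U.1) := (ConcreteCategory.bijective_of_isIso _).1
    have hm' : Amp73.tm J (M i) (w C i) m = (ε i).inv.app C.U.1 one :=
      hinj ((S.lift_tmul C.U.1 (w C i) m).trans hm)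
    have h1 : (ε i).hom.app C.U.1 (Amp73.tm J (M i) (w C i) m) = one := by
      rw [hm']
      show ((ε i).inv.app C.U.1 ≫ (ε i).hom.app C.U.1) one = one
      rw [← Scheme.Modules.Hom.comp_app, Iso.inv_hom_id]
      rfl
    refine ⟨m, Amp73.isFrame_of_locally _ fun x hx => ?_, h1⟩
    obtain ⟨W, hxW, hW, m₀, hm₀⟩ := Mero90.exists_affine_frame hinv x C.U.1 hx
    refine ⟨W.1, hW, hxW, ?_⟩
    obtain ⟨c, hc⟩ := (frame_bij hm₀).2 (res (M i) hW m)
    dsimp only at hc
    rw [← hc, Amp73.isFrame_smul_iff hm₀]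
    have h2 := congrArg (res (Coh.structureModule X) hW) h1
    rw [← Mero90.app_res, Amp73.res_tm, ← hc, Amp73.tm_smul_right, Scheme.Modules.Hom.app_smul] at h2
    exact IsUnit.of_mul_eq_one _ (h2.trans (map_one (X.presheaf.map (homOfLE hW).op).hom))
  choose m hmf hm1 using hm
  choose z hz using fun (C : DChart L D) (i : Fin N) => exists_z R hR hN α hs C i
  have hc : ∀ i : Fin N, ∃ φ : M i ⟶ P, ∀ C : DChart L D, φ.app C.U.1 (m C i) = (show Γ(P, C.U.1) from z C i) := by
    intro i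
    refine Amp73.exists_hom_of_frames (fun C : DChart L D => C.U.1)
      (eq_top_iff.mpr fun x _ => ?_) (fun C => m C i) (fun C => hmf C i) (fun C => (show Γ(P, C.U.1) from z C i)) ?_
    · obtain ⟨C, hxC, -⟩ := exists_dchart sf hL D hD (W := ⊤) (x := x) trivial
      exact Opens.mem_iSup.mpr ⟨C, hxC⟩
    intro C C' V hi hj c hc
    refine Var76.ZeroScheme.eq_of_locally P _ _ fun x hx => ?_
    obtain ⟨W, hxW, hW, eW, heW⟩ := Mero90.exists_affine_frame hL x V hx
    refine ⟨W.1, hW, hxW, ?_⟩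
    have : Nonempty W.1 := ⟨⟨x, hxW⟩⟩
    have hWi : W.1 ≤ C.U.1 := hW.trans hi
    have hWj : W.1 ≤ C'.U.1 := hW.trans hj
    have hei := C.he.res hWi
    have hej := C'.he.res hWj
    let ρi := (X.presheaf.map (homOfLE hWi).op).hom
    let ρj := (X.presheaf.map (homOfLE hWj).op).hom
    let c' : Γ(X, W.1) := X.presheaf.map (homOfLE hW).op c
    obtain ⟨b, hbu, hb⟩ := exists_coord_unit hei hej
    have h1 : (CycCov.floorIdeal D α N i).ideal W = Ideal.span {ρi (C.gen α N i)} :=
      Div89.ideal_res_span hWi (C.ideal_floor α N i)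
    have h2 : (CycCov.floorIdeal D α N i).ideal W = Ideal.span {ρj (C'.gen α N i)} :=
      Div89.ideal_res_span hWj (C'.ideal_floor α N i)
    obtain ⟨g', hg'⟩ := Ideal.mem_span_singleton'.mp (h1.le (h2.ge (Ideal.mem_span_singleton_self _)))
    have hms' : res _ hWj (ms C' i) = g' • res _ hWi (ms C i) := by
      refine Omega57.idealSect_injective _ W.1 ?_
      rw [Omega57.idealSect_smul, Curves2.idealSect_res, Curves2.idealSect_res, hms, hms]
      exact hg'.symm
    have hw : res _ hWj (w C' i) = (b ^ (i : ℕ) * g') • res _ hWi (w C i) := by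
      dsimp only [w, CycCov.intPart]
      rw [Amp73.res_tm, Amp73.res_tm, hms', Amp73.res_epow, Amp73.res_epow, hb, Amp73.epow_smul, Amp73.tm_smul]
      rfl
    have hm' : res (M i) hWj (m C' i) = c' • res (M i) hWi (m C i) := by
      have h := congrArg (res (M i) hW) hc
      rwa [res_smul, res_res, res_res] at h
    have hcv : b ^ (i : ℕ) * g' * c' = 1 := by
      have e1 := congrArg (res (Coh.structureModule X) hWj) (hm1 C' i)
      rw [← Mero90.app_res, Amp73.res_tm, hw, hm', Amp73.tm_smul, Scheme.Modules.Hom.app_smul, ← Amp73.res_tm,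
        Mero90.app_res, hm1] at e1
      have e2 : (b ^ (i : ℕ) * g' * c') * ρi 1 = ρj 1 := e1
      rwa [map_one, map_one, mul_one] at e2
    -- compare the sections on the cover
    let t := R.t W (res L hWi C.e) (isGen_of_isFrame hei)
    let t' := R.t W (res L hWj C'.e) (isGen_of_isFrame hej)
    let zi : Γ(Y, π ⁻¹ᵁ W.1) := Y.presheaf.map (homOfLE (π.preimage_mono hWi)).op (z C i)
    let zj : Γ(Y, π ⁻¹ᵁ W.1) := Y.presheaf.map (homOfLE (π.preimage_mono hWj)).op (z C' i)
    have hzi : zi * π.app W.1 (ρi (C.gen α N i)) = t ^ (i : ℕ) := by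
      have h := congrArg (Y.presheaf.map (homOfLE (π.preimage_mono hWi)).op) (hz C i)
      rwa [map_mul, map_pow, app_res_comm, R.t_res C.U W hWi C.e _ (isGen_of_isFrame hei)] at h
    have hzj : zj * π.app W.1 (ρj (C'.gen α N i)) = t' ^ (i : ℕ) := by
      have h := congrArg (Y.presheaf.map (homOfLE (π.preimage_mono hWj)).op) (hz C' i)
      rwa [map_mul, map_pow, app_res_comm, R.t_res C'.U W hWj C'.e _ (isGen_of_isFrame hej)] at h
    have htt : t' * π.app W.1 b = t := by
      have h := R.t_smul W (res L hWi C.e) (isGen_of_isFrame hei) b (hb ▸ isGen_of_isFrame hej)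
      have hcongr : ∀ (e₂ : Γ(L, W.1)) (he₂ : CycCov.IsGen L W.1 e₂) (h₂ : e₂ = b • res L hWi C.e),
          R.t W e₂ he₂ = R.t W (b • res L hWi C.e) (h₂ ▸ he₂) := by
        intro e₂ he₂ h₂
        subst h₂
        rfl
      rw [show t' = _ from hcongr _ _ hb]
      exact h
    have key : zj = π.app W.1 c' * zi := by
      have hgi : ρi (C.gen α N i) ≠ 0 :=
        have := C.ne
        (map_ne_zero_iff _ (map_injective_of_isIntegral X _)).mpr (C.gen_ne_zero α N i)
      have h : zj * π.app W.1 (b ^ (i : ℕ) * g') = zi := by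
        refine cancel_app R hR hN W hei hgi ?_
        rw [hzi, ← htt, mul_pow, ← hzj, ← hg', map_mul, map_mul, map_pow]
        ring
      calc zj = zj * π.app W.1 (b ^ (i : ℕ) * g' * c') := by rw [hcv, map_one, mul_one]
        _ = _ := by rw [map_mul, ← mul_assoc, h, mul_comm]
    show res P hW (res P hj (show Γ(P, C'.U.1) from z C' i)) = res P hW (c • res P hi (show Γ(P, C.U.1) from z C i))
    rw [res_smul, res_res, res_res]
    exact key
  choose φ hφ using hc
  refine ⟨φ, ?_⟩
  haveI := HasFiniteBiproducts.of_hasFiniteProducts (C := X.Modules)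
  have : IsIso (biproduct.desc φ : ⨁ M ⟶ P) := by
    refine FMK72.isIso_of_basis _ fun x W hx => ?_
    obtain ⟨C, hxC, hCW⟩ := exists_dchart sf hL D hD hx
    refine ⟨C.U.1, hCW, hxC, ?_⟩
    let U := C.U.1
    have hb := bijective_eigen R hR hN sf α hs hNk C (fun i => z C i) (fun i => hz C i)
    let T : (Fin N → Γ(X, U)) → Γ(⨁ M, U) := fun a => ∑ i, (biproduct.ι M i).app U (a i • m C i)
    have hT : ∀ a, (biproduct.desc φ).app U (T a) = ∑ i, π.app U (a i) * z C i := fun a => by
      refine (map_sum ((biproduct.desc φ).app U).hom _ _).trans (Finset.sum_congr rfl fun i _ => ?_)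
      show (((biproduct.ι M i).app U ≫ (biproduct.desc φ).app U) : _ ⟶ _) (a i • m C i) = _
      rw [← Scheme.Modules.Hom.comp_app, biproduct.ι_desc, Scheme.Modules.Hom.app_smul, hφ]
      rfl
    have hsurj : Function.Surjective T := fun q => by
      choose a ha using fun i => (hmf C i U le_rfl).2 ((biproduct.π M i).app U q)
      refine ⟨a, ?_⟩
      have h := congrArg (fun ψ => appAt (P := ⨁ M) U q ψ) (biproduct.total (f := M))
      rw [map_sum] at h
      refine Eq.trans (Finset.sum_congr rfl fun i _ => ?_) h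
      show (biproduct.ι M i).app U (a i • m C i) = (biproduct.π M i ≫ biproduct.ι M i).app U q
      rw [Scheme.Modules.Hom.comp_app, ConcreteCategory.comp_apply, ← ha i]
      simp only [Amp73.res_self]
    refine ⟨fun q q' h => ?_, fun y => ?_⟩
    · obtain ⟨a, rfl⟩ := hsurj q
      obtain ⟨a', rfl⟩ := hsurj q'
      rw [hT, hT] at h
      rw [hb.1 h]
    · obtain ⟨a, ha⟩ := hb.2 y
      exact ⟨T a, (hT a).trans ha⟩
  exact ⟨(biproduct.isColimit M).ofIsoColimit
    (Cofan.ext (@asIso _ _ _ _ (biproduct.desc φ) this) fun i => biproduct.ι_desc φ i)⟩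

end Groth.Agent.CycCov52
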