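import Groth.Agent.CycCov52.Ramification
import Groth.Agent.CycCov52.NCD
import Groth.Agent.CAlg7.EtaleOfRank
import Groth.Agent.Var76.RegSmooth
import Mathlib.RingTheory.Kaehler.Polynomial
import Mathlib.RingTheory.Ideal.MinimalPrime.Localization

/-! Etale coordinates on a cyclic cover near the ramification divisor. -/

set_option autoImplicit false
set_option linter.style.haveILetI false
universe u

noncomputable section

namespace Groth.Agent.CycCov52

open MvPolynomial KaehlerDifferential TensorProduct

variable {k : Type u} [Field k] {σ : Type u}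

theorem derivation_eq_zero_of_coord {B : Type u} [CommRing B] [Algebra k B] (φ : MvPolynomial σ k →ₐ[k] B)
    (hφ : φ.toRingHom.Etale) {M : Type u} [AddCommGroup M] [Module B M] [Module k M] [IsScalarTower k B M]
    (D : Derivation k B M) (h : ∀ i, D (φ (X i)) = 0) (b : B) : D b = 0 := by
  let P := MvPolynomial σ k
  letI : Algebra P B := φ.toRingHom.toAlgebra
  have : Algebra.Etale P B := hφ
  letI : Module P M := Module.compHom M φ.toRingHom
  have : IsScalarTower P B M := IsScalarTower.of_algebraMap_smul fun p m => rfl
  have hP : ∀ p : P, D (algebraMap P B p) = 0 := by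
    intro p
    induction p using MvPolynomial.induction_on with
    | C c =>
      show D (φ (MvPolynomial.C c)) = 0
      rw [← MvPolynomial.algebraMap_eq, φ.commutes, D.map_algebraMap]
    | add p q hp hq => rw [map_add, map_add, hp, hq, add_zero]
    | mul_X p i hp =>
      rw [map_mul, D.leibniz, hp, show D (algebraMap P B (X i)) = 0 from h i, smul_zero, smul_zero, add_zero]
  let Dlin : B →ₗ[P] M :=
    { toFun := D
      map_add' := map_add D
      map_smul' := fun p b => by
        rw [RingHom.id_apply, Algebra.smul_def, D.leibniz, hP, smul_zero, add_zero]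
        rfl }
  let D' : Derivation P B M := Derivation.mk' Dlin D.leibniz
  have : Subsingleton (Ω[B⁄P]) := inferInstance
  show D' b = 0
  rw [← Derivation.liftKaehlerDifferential_comp_D D' b, Subsingleton.elim (KaehlerDifferential.D P B b) 0, map_zero]

theorem rankAtStalk_kaehler_of_etale {B : Type u} [CommRing B] [Algebra k B] (T : Type u) [CommRing T] [Algebra k T]
    [Algebra B T] [IsScalarTower k B T] [Algebra.FormallyEtale B T] [Algebra (MvPolynomial σ k) B]
    [IsScalarTower k (MvPolynomial σ k) B] [Algebra.FormallyEtale (MvPolynomial σ k) B] [Finite σ]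
    (p : PrimeSpectrum T) : Module.rankAtStalk (Ω[T⁄k]) p = Nat.card σ := by
  have : Nontrivial T := p.nontrivial
  let b := (KaehlerDifferential.mvPolynomialBasis k σ)
  let e1 := tensorKaehlerEquivOfFormallyEtale k (MvPolynomial σ k) B
  let bB : Module.Basis σ B (Ω[B⁄k]) := (b.baseChange B).map e1
  let e2 := tensorKaehlerEquivOfFormallyEtale k B T
  let bT : Module.Basis σ T (Ω[T⁄k]) := (bB.baseChange T).map e2
  have : Module.Free T (Ω[T⁄k]) := Module.Free.of_basis bT
  have : Module.Finite T (Ω[T⁄k]) := Module.Finite.of_basis bT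
  rw [Module.rankAtStalk_eq_finrank_of_free, Pi.natCast_apply, Module.finrank_eq_nat_card_basis bT]
  rfl

section Main

open CycCov3

variable [IsAlgClosed k] [Finite σ] [DecidableEq σ]
variable {B : Type u} [CommRing B] [IsDomain B] [IsRegularRing B] [Algebra k B]

set_option maxHeartbeats 1600000 in
theorem exists_etale_coord (φ : MvPolynomial σ k →ₐ[k] B) (hφ : φ.toRingHom.Etale) (e : σ) {d n x : ℕ} (u : Bˣ)
    (h : B) (hh : h = φ (X e)) (h0 : h ≠ 0) [IsRegularRing (B ⧸ Ideal.span {h})]
    (hd : 0 < d) (hn : 0 < n) (hdB : IsUnit (d : B)) (hnB : IsUnit (n : B)) :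
    ∃ (ψ : MvPolynomial σ k →ₐ[k] Rring (d := d) (n := n) (x := x) u h) (δ c : Rring (d := d) (n := n) (x := x) u h),
      (∀ i, i ≠ e → ψ (X i) = algebraMap B _ (φ (X i))) ∧ ψ (X e) = AdjoinRoot.root _ ∧
      δ = algebraMap (Sring d u) _ (wS d u ^ x) + algebraMap B _ h * c ∧
      ∀ (T : Type u) [CommRing T] [Algebra (Rring (d := d) (n := n) (x := x) u h) T] [IsLocalization.Away δ T],
        ((algebraMap (Rring (d := d) (n := n) (x := x) u h) T).comp ψ.toRingHom).Etale := by
  classical
  let S := Sring d u
  let R := Rring (d := d) (n := n) (x := x) u h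
  let P := MvPolynomial σ k
  let W : R := algebraMap S R (wS d u)
  let v : R := AdjoinRoot.root _
  let hR : R := algebraMap B R h
  let ψ : P →ₐ[k] R := MvPolynomial.aeval fun i => if i = e then v else algebraMap B R (φ (X i))
  have hψi : ∀ i, i ≠ e → ψ (X i) = algebraMap B R (φ (X i)) := fun i hi => (aeval_X _ i).trans (if_neg hi)
  have hψe : ψ (X e) = v := (aeval_X _ e).trans (if_pos rfl)
  letI : Algebra P R := ψ.toRingHom.toAlgebra
  have : IsScalarTower k P R := IsScalarTower.of_algebraMap_eq fun c => (ψ.commutes c).symm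
  let D := KaehlerDifferential.D P R
  let η : Ω[R⁄P] := D hR
  let Nη : Submodule R (Ω[R⁄P]) := Submodule.span R {η}
  -- differentials are multiples of `η`
  let Dbar : Derivation P R (Ω[R⁄P] ⧸ Nη) := Nη.mkQ.compDer D
  have hDv : D v = 0 := by rw [← hψe]; exact D.map_algebraMap (X e)
  have hDX : ∀ i, i ≠ e → D (algebraMap B R (φ (X i))) = 0 := fun i hi => by
    rw [← hψi i hi]; exact D.map_algebraMap (X i)
  have hBar : ∀ b : B, Dbar (algebraMap B R b) = 0 := by
    let DB : Derivation k B (Ω[R⁄P] ⧸ Nη) := (Dbar.restrictScalars k).compAlgebraMap B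
    intro b
    refine derivation_eq_zero_of_coord φ hφ DB (fun i => ?_) b
    show Dbar (algebraMap B R (φ (X i))) = 0
    by_cases hi : i = e
    · subst hi
      rw [← hh]
      exact (Submodule.Quotient.mk_eq_zero Nη).mpr (Submodule.mem_span_singleton_self _)
    · show Nη.mkQ (D (algebraMap B R (φ (X i)))) = 0
      rw [hDX i hi, map_zero]
  have hWd : W ^ d = algebraMap B R u := by
    rw [← map_pow, wS_pow, ← IsScalarTower.algebraMap_apply]
  have hWu : IsUnit W := (isUnit_wS u hd).map _
  have hBarW : Dbar W = 0 := by
    have h1 := congrArg Dbar hWd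
    rw [hBar, Derivation.leibniz_pow, ← smul_assoc] at h1
    have hu : IsUnit ((d : R) * W ^ (d - 1)) := by
      refine IsUnit.mul ?_ (hWu.pow _)
      rw [← map_natCast (algebraMap B R)]
      exact hdB.map _
    refine (hu.smul_left_cancel (y := (0 : Ω[R⁄P] ⧸ Nη))).mp ?_
    rw [smul_zero, ← nsmul_eq_mul]
    exact h1
  have htop : ∀ r : R, Dbar r = 0 := by
    intro r
    have hr : r ∈ Algebra.adjoin B ({W, v} : Set R) := by
      rw [adjoin_tower_eq_top _ AdjoinRoot.adjoinRoot_eq_top]
      trivial
    induction hr using Algebra.adjoin_induction with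
    | mem r hr =>
      rcases hr with rfl | hr
      · exact hBarW
      · rw [Set.mem_singleton_iff.mp hr]
        show Nη.mkQ (D v) = 0
        rw [hDv, map_zero]
    | algebraMap b => exact hBar b
    | add p q _ _ hp hq => rw [map_add, hp, hq, add_zero]
    | mul p q _ _ hp hq => rw [Derivation.leibniz, hp, hq, smul_zero, smul_zero, add_zero]
  have hmem : ∀ r : R, ∃ c : R, D r = c • η := fun r => by
    obtain ⟨c, hc⟩ := Submodule.mem_span_singleton.mp ((Submodule.Quotient.mk_eq_zero Nη).mp (htop r))
    exact ⟨c, hc.symm⟩
  obtain ⟨c₁, hc₁⟩ := hmem W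
  let c : R := (x : R) * W ^ (x - 1) * c₁
  let δ : R := algebraMap S R (wS d u ^ x) + hR * c
  have hv : v ^ n = W ^ x * hR := by
    refine (root_pow hn _).trans ?_
    rw [map_mul (algebraMap S R), map_pow (algebraMap S R), ← IsScalarTower.algebraMap_apply]
  have hδη : δ • η = 0 := by
    have h1 := congrArg D hv
    rw [Derivation.leibniz_pow, hDv, smul_zero, smul_zero, Derivation.leibniz, Derivation.leibniz_pow, hc₁] at h1
    have e1 : δ = W ^ x + hR * ((x : R) * W ^ (x - 1) * c₁) := by
      show algebraMap S R (wS d u ^ x) + _ = _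
      rw [map_pow]
    rw [e1, add_smul, h1, smul_smul, ← Nat.cast_smul_eq_nsmul R, smul_smul, smul_smul]
    congr 2
    ring
  refine ⟨ψ, δ, c, hψi, hψe, rfl, fun T _ _ _ => ?_⟩
  letI : Algebra P T := ((algebraMap R T).comp ψ.toRingHom).toAlgebra
  have : IsScalarTower P R T := IsScalarTower.of_algebraMap_eq fun p => rfl
  letI : Algebra k T := ((algebraMap R T).comp (algebraMap k R)).toAlgebra
  have : IsScalarTower k R T := IsScalarTower.of_algebraMap_eq fun p => rfl
  have : IsScalarTower k P T := IsScalarTower.of_algebraMap_eq fun p => by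
    show algebraMap R T (algebraMap k R p) = algebraMap R T (ψ (algebraMap k P p))
    rw [ψ.commutes]
  have hsub : Subsingleton (Ω[T⁄P]) := by
    have hs := KaehlerDifferential.span_range_map_derivation_of_isLocalization (R := P) (S := R) (T := T)
      (Submonoid.powers δ)
    refine (Submodule.subsingleton_iff T).mp ((subsingleton_iff_bot_eq_top).mp ?_)
    refine (le_bot_iff.mp (hs.ge.trans (Submodule.span_le.mpr ?_))).symm
    rintro _ ⟨r, rfl⟩
    show KaehlerDifferential.map P P R T (D r) = 0
    obtain ⟨c', hc'⟩ := hmem r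
    have hu : IsUnit (algebraMap R T δ) := IsLocalization.Away.algebraMap_isUnit δ
    refine (hu.smul_left_cancel (y := (0 : Ω[T⁄P]))).mp ?_
    rw [smul_zero, algebraMap_smul, ← map_smul, hc', smul_comm, hδη, smul_zero, map_zero]
  -- ranks
  letI : Algebra P B := φ.toRingHom.toAlgebra
  have : IsScalarTower k P B := IsScalarTower.of_algebraMap_eq fun p => (φ.commutes p).symm
  have : Algebra.Etale P B := hφ
  have : Algebra.Smooth k P := ⟨inferInstance, inferInstance⟩
  have : Algebra.Smooth k B := Algebra.Smooth.comp k P B
  have := isRegularRing_Rring (x := x) u h hd hdB hn hnB h0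
  have hmR := Polynomial.monic_X_pow_sub_C (wS d u ^ x * algebraMap B S h) hn.ne'
  have := free_Sring u hd
  have := finite_Sring u hd
  have : Module.Free S R := hmR.free_adjoinRoot
  have : Module.Finite S R := hmR.finite_adjoinRoot
  have : Module.Free B R := Module.Free.trans (R := B) (S := S) (M := R)
  have : Module.Finite B R := Module.Finite.trans S R
  have : Algebra.FiniteType k R := Algebra.FiniteType.trans (inferInstance : Algebra.FiniteType k B) inferInstance
  have : Algebra.Smooth k R :=
    Var76.RegSmooth.smooth_of_regular fun M _ => IsRegularRing.isRegularLocalRing_localization M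
  have : Algebra.Smooth k T := by
    have : Algebra.Smooth R T := Algebra.Smooth.of_isLocalization_Away δ
    exact Algebra.Smooth.comp k R T
  have hrankP : ∀ p : PrimeSpectrum P, Module.rankAtStalk (Ω[P⁄k]) p = Nat.card σ := fun p =>
    rankAtStalk_kaehler_of_etale (σ := σ) (B := P) P p
  have hrankT : ∀ p : PrimeSpectrum T, Module.rankAtStalk (Ω[T⁄k]) p = Nat.card σ := by
    intro p
    obtain ⟨Q, hQ, hQp⟩ := Ideal.exists_minimalPrimes_le (bot_le : (⊥ : Ideal T) ≤ p.asIdeal)
    let q : PrimeSpectrum T := ⟨Q, hQ.1.1⟩
    have hspec : q ⤳ p := (PrimeSpectrum.le_iff_specializes q p).1 hQp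
    have : Module.FinitePresentation T (Ω[T⁄k]) := Module.finitePresentation_of_projective T _
    have hloc := Module.isLocallyConstant_rankAtStalk (R := T) (M := Ω[T⁄k])
    rw [← show Module.rankAtStalk (Ω[T⁄k]) q = Module.rankAtStalk (Ω[T⁄k]) p from
      hspec.mem_open (hloc {Module.rankAtStalk (Ω[T⁄k]) p}) rfl]
    -- the generic point lies over the unramified part
    have hnzd : algebraMap R T hR ∈ nonZeroDivisors T :=
      IsLocalization.map_nonZeroDivisors_le (Submonoid.powers δ) T
        ⟨hR, algebraMap_ne_zero_mem_nonZeroDivisors h0, rfl⟩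
    have hq : algebraMap R T hR ∉ Q := fun hin =>
      Set.disjoint_left.mp (Ideal.disjoint_nonZeroDivisors_of_mem_minimalPrimes hQ) hin hnzd
    let T' := Localization.Away (algebraMap R T hR)
    obtain ⟨q', hq'⟩ : ∃ q' : PrimeSpectrum T', q'.comap (algebraMap T T') = q := by
      have : q ∈ Set.range (PrimeSpectrum.comap (algebraMap T T')) := by
        rw [PrimeSpectrum.localization_away_comap_range T' (algebraMap R T hR)]
        exact hq
      exact this
    have : Algebra.FormallyEtale T T' := Algebra.FormallyEtale.of_isLocalization (Submonoid.powers (algebraMap R T hR))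
    rw [← hq', ← Module.rankAtStalk_baseChange (S := T'),
      Module.rankAtStalk_eq_of_equiv (tensorKaehlerEquivOfFormallyEtale k T T')]
    letI : Algebra B T' := ((algebraMap T T').comp ((algebraMap R T).comp (algebraMap B R))).toAlgebra
    letI : Algebra S T' := ((algebraMap T T').comp ((algebraMap R T).comp (algebraMap S R))).toAlgebra
    have : IsScalarTower B S T' := IsScalarTower.of_algebraMap_eq fun b => by
      show algebraMap T T' (algebraMap R T (algebraMap B R b)) = algebraMap T T' (algebraMap R T (algebraMap S R (algebraMap B S b)))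
      rw [← IsScalarTower.algebraMap_apply B S R]
    have : IsScalarTower k B T' := IsScalarTower.of_algebraMap_eq fun b => by
      rw [IsScalarTower.algebraMap_apply k T T']
      show algebraMap T T' (algebraMap R T (algebraMap k R b)) = algebraMap T T' (algebraMap R T (algebraMap B R (algebraMap k B b)))
      rw [← IsScalarTower.algebraMap_apply k B R]
    have : Algebra.Etale B S := (Groth.Agent.S14457.result B (u : B) d hd).mpr (Or.inr (hdB.mul u.isUnit))
    have : IsScalarTower S R T' := IsScalarTower.of_algebraMap_eq fun b =>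
      (IsScalarTower.algebraMap_apply R T T' (algebraMap S R b)).symm
    have : Algebra.FormallyEtale S T' := by
      let cS : S := wS d u ^ x * algebraMap B S h
      obtain ⟨w, hw⟩ := (show IsUnit ((n : ℕ) : S) by rw [← map_natCast (algebraMap B S)]; exact hnB.map _)
      let SP : StandardEtalePair S :=
        { f := Polynomial.X ^ n - Polynomial.C cS
          monic_f := hmR
          g := Polynomial.C cS
          cond := ⟨Polynomial.C (↑w⁻¹ : S) * Polynomial.X, -1, 1, by
            have hw' : Polynomial.C (n : S) * Polynomial.C (↑w⁻¹ : S) = 1 := by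
              rw [← map_mul, ← hw, Units.mul_inv, map_one]
            rw [Polynomial.derivative_sub, Polynomial.derivative_X_pow, Polynomial.derivative_C, sub_zero, pow_one,
              show (Polynomial.X : Polynomial S) ^ n = Polynomial.X ^ (n - 1) * Polynomial.X by
                rw [← pow_succ, Nat.sub_add_cancel hn]]
            linear_combination (Polynomial.X ^ (n - 1) * Polynomial.X) * hw'⟩ }
      let R₁ := Localization.Away (AdjoinRoot.mk SP.f SP.g)
      have : Algebra.Etale S R₁ := Algebra.Etale.of_equiv SP.equivAwayAdjoinRoot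
      have hTl : IsLocalization.Away (hR * δ) T' := IsLocalization.Away.mul T T' δ hR
      have hg : (AdjoinRoot.mk SP.f SP.g : R) = algebraMap S R (wS d u ^ x) * hR := by
        show algebraMap S R cS = _
        rw [map_mul (algebraMap S R), ← IsScalarTower.algebraMap_apply]
      have hT1 : IsLocalization.Away ((AdjoinRoot.mk SP.f SP.g : R) * δ) T' :=
        IsLocalization.Away.of_associated (show Associated (hR * δ) ((AdjoinRoot.mk SP.f SP.g : R) * δ) from
          (congrArg (fun g => Associated (hR * δ) (g * δ)) hg).mpr
            ((associated_unit_mul_right hR _ (((isUnit_wS u hd).pow x).map (algebraMap S R))).mul_right δ))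
      let R₂ := Localization.Away (algebraMap R R₁ δ)
      have : IsLocalization.Away ((AdjoinRoot.mk SP.f SP.g : R) * δ) R₂ := IsLocalization.Away.mul' R₁ R₂ _ _
      have : Algebra.FormallyEtale R₁ R₂ := Algebra.FormallyEtale.of_isLocalization (Submonoid.powers (algebraMap R R₁ δ))
      have : Algebra.FormallyEtale S R₂ := Algebra.FormallyEtale.comp S R₁ R₂
      exact Algebra.FormallyEtale.of_equiv
        ((IsLocalization.algEquiv (Submonoid.powers ((AdjoinRoot.mk SP.f SP.g : R) * δ)) R₂ T').restrictScalars S)
    have : Algebra.FormallyEtale B T' := Algebra.FormallyEtale.comp B S T'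
    exact rankAtStalk_kaehler_of_etale (σ := σ) (B := B) T' q'
  have : Algebra.FormallyEtale P T := CAlg7.formallyEtale_of_rank k hrankP hrankT
  have : Algebra.FiniteType P T := Algebra.FiniteType.of_restrictScalars_finiteType k P T
  have : Algebra.FinitePresentation P T := Algebra.FinitePresentation.of_finiteType.1 this
  exact { }

end Main

end Groth.Agent.CycCov52
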