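import Groth.Agent.CycCov3.Main

/-! A normal model of the cyclic cover is the radical extension of `CycCov3`. -/

set_option autoImplicit false
set_option linter.style.haveILetI false
universe u

open Polynomial

namespace Groth.Agent.CycCov52

open CycCov3

variable {B : Type u} [CommRing B]

theorem exists_equiv_abs {n x : ℕ} (a y z : ℕ) (f : B)
    {C R K Bt : Type u} [CommRing C] [CommRing R] [CommRing K] [CommRing Bt]
    [Algebra B C] [Algebra B R] [Algebra B K] [Algebra C K] [IsScalarTower B C K] [Module.Finite B R]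
    [IsRegularRing R] [IsLocalization.Away (algebraMap B C f) K]
    [Algebra B Bt] [Algebra.IsIntegral B Bt]
    (jBt : Bt →ₐ[B] K) (hj : Function.Injective jBt) (hclosed : ∀ w : K, IsIntegral B w → ∃ b, jBt b = w)
    (hfR : algebraMap B R f ∈ nonZeroDivisors R) (key : a * x + n * z = n * y + 1)
    (r₀ : C) (hCtop : Algebra.adjoin B {r₀} = ⊤)
    (W W' v : R) (hW : W * W' = 1) (hv : v ^ n = W ^ x * algebraMap B R f) (hRtop : Algebra.adjoin B {W, v} = ⊤)
    (ψ : C →ₐ[B] R) (hψt : ψ r₀ = v ^ a * W ^ z * W' ^ y)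
    (φ : R →ₐ[B] K) (hφW : φ W = algebraMap C K r₀ ^ n * IsLocalization.Away.invSelf (algebraMap B C f) ^ a)
    (hφv : φ v = algebraMap C K r₀ ^ x * algebraMap B K f ^ z * IsLocalization.Away.invSelf (algebraMap B C f) ^ y) :
    ∃ e : R ≃ₐ[B] Bt, ∀ r, jBt (e r) = φ r := by
  let fR : R := algebraMap B R f
  let fK : K := algebraMap B K f
  let t : K := algebraMap C K r₀
  let i : K := IsLocalization.Away.invSelf (algebraMap B C f)
  let t₀ : R := v ^ a * W ^ z * W' ^ y
  let wK : K := t ^ n * i ^ a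
  let vK : K := t ^ x * fK ^ z * i ^ y
  obtain ⟨ht₀, ht₁⟩ := t0_pow (n := n) (x := x) a y z W W' v hW hv key
  have hψB : ∀ b : B, ψ (algebraMap B C b) = algebraMap B R b := ψ.commutes
  have hfi : fK * i = 1 := by
    show algebraMap B K f * _ = 1
    rw [IsScalarTower.algebraMap_apply B C K]
    exact IsLocalization.Away.mul_invSelf _
  have hφf : φ fR = fK := φ.commutes f
  have hW'K : wK * φ W' = 1 := by show t ^ n * i ^ a * _ = 1; rw [← hφW, ← map_mul, hW, map_one]
  have hφt : φ t₀ = t := by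
    show φ (v ^ a * W ^ z * W' ^ y) = t
    rw [map_mul, map_mul, map_pow, map_pow, map_pow, hφv, hφW]
    refine ((IsUnit.of_mul_eq_one _ hW'K).pow y).mul_left_injective ?_
    show vK ^ a * wK ^ z * φ W' ^ y * wK ^ y = t * wK ^ y
    rw [mul_assoc (vK ^ a * wK ^ z), ← mul_pow, mul_comm (φ W'), hW'K, one_pow, mul_one]
    show (t ^ x * fK ^ z * i ^ y) ^ a * (t ^ n * i ^ a) ^ z = t * (t ^ n * i ^ a) ^ y
    calc (t ^ x * fK ^ z * i ^ y) ^ a * (t ^ n * i ^ a) ^ z
          = t ^ (a * x + n * z) * i ^ (a * y) * (fK * i) ^ (a * z) := by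
            rw [mul_pow, mul_pow, mul_pow, mul_pow, ← pow_mul, ← pow_mul, ← pow_mul, ← pow_mul, ← pow_mul,
              mul_comm x a, mul_comm z a, mul_comm y a, pow_add]
            ring
      _ = t * (t ^ n * i ^ a) ^ y := by
            rw [hfi, one_pow, mul_one, key, pow_add, pow_one, mul_pow, ← pow_mul, ← pow_mul]; ring
  have hφψ : φ.comp ψ = IsScalarTower.toAlgHom B C K :=
    AlgHom.ext_of_adjoin_eq_top hCtop fun c hc => by
      rw [Set.mem_singleton_iff.1 hc, AlgHom.comp_apply, hψt]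
      exact hφt
  let L := Localization.Away fR
  let ι : R →+* L := algebraMap R L
  have hfL : IsUnit (ι.comp ψ.toRingHom (algebraMap B C f)) := by
    show IsUnit (ι (ψ (algebraMap B C f)))
    rw [hψB]
    exact IsLocalization.Away.algebraMap_isUnit fR
  let Ψ : K →+* L := IsLocalization.Away.lift (algebraMap B C f) hfL
  have hΨ : ∀ c : C, Ψ (algebraMap C K c) = ι (ψ c) := fun c => IsLocalization.Away.lift_eq _ _ c
  have hΨB : ∀ b : B, Ψ (algebraMap B K b) = ι (algebraMap B R b) := fun b => by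
    rw [IsScalarTower.algebraMap_apply B C K, hΨ, hψB]
  have hΨt : Ψ t = ι t₀ := (hΨ _).trans (congrArg ι hψt)
  have hu : IsUnit (ι fR) := IsLocalization.Away.algebraMap_isUnit fR
  have hΨf : Ψ fK = ι fR := hΨB f
  have hΨw : Ψ wK = ι W := by
    refine (hu.pow a).mul_left_injective ?_
    show Ψ (t ^ n * i ^ a) * ι fR ^ a = ι W * ι fR ^ a
    rw [← hΨf, ← map_pow Ψ fK a, ← map_mul Ψ, mul_assoc, ← mul_pow, mul_comm i, hfi, one_pow, mul_one, map_pow Ψ t n, hΨt,
      ← map_pow ι t₀ n, ht₀, map_mul ι, map_pow ι fR a, map_pow Ψ fK a, hΨf]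
  have hΨv : Ψ vK = ι v := by
    refine (hu.pow y).mul_left_injective ?_
    show Ψ (t ^ x * fK ^ z * i ^ y) * ι fR ^ y = ι v * ι fR ^ y
    rw [← hΨf, ← map_pow Ψ, ← map_mul, mul_assoc, ← mul_pow, mul_comm i, hfi, one_pow, mul_one, map_mul, map_pow, map_pow,
      hΨt, hΨf, ← map_pow, ← map_pow, ← map_mul, ht₁, map_mul, map_pow, map_pow, hΨf]
  have hΨB' : ∀ b : B, Ψ (algebraMap B K b) = algebraMap B L b := fun b => by
    rw [hΨB]
    exact (IsScalarTower.algebraMap_apply B R L b).symm
  have hΨφ : Ψ.comp φ.toRingHom = ι := by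
    have h : (AlgHom.mk Ψ hΨB').comp φ = IsScalarTower.toAlgHom B R L :=
      AlgHom.ext_of_adjoin_eq_top hRtop fun c hc => by
        rcases hc with rfl | hc
        · exact (congrArg Ψ hφW).trans hΨw
        · rw [Set.mem_singleton_iff.1 hc]
          exact (congrArg Ψ hφv).trans hΨv
    exact congrArg AlgHom.toRingHom h
  have hιinj : Function.Injective ι :=
    IsLocalization.injective L (Submonoid.powers_le.2 hfR)
  have hφinj : Function.Injective φ := fun p q h => hιinj (by
    rw [← hΨφ, RingHom.comp_apply, RingHom.comp_apply]; exact congrArg Ψ h)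
  -- membership
  have hmem : ∀ r : R, ∃ b, jBt b = φ r := fun r =>
    hclosed _ ((Algebra.IsIntegral.isIntegral (R := B) r).map φ)
  choose e he using hmem
  let eA : R →ₐ[B] Bt :=
    { toFun := e
      map_one' := hj (by rw [he, map_one, map_one])
      map_mul' := fun p q => hj (by rw [he, map_mul, map_mul, he, he])
      map_zero' := hj (by rw [he, map_zero, map_zero])
      map_add' := fun p q => hj (by rw [he, map_add, map_add, he, he])
      commutes' := fun b => hj (by rw [he, AlgHom.commutes, AlgHom.commutes]) }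
  refine ⟨AlgEquiv.ofBijective eA ⟨fun p q h => hφinj ?_, fun b => ?_⟩, he⟩
  · rw [← he p, ← he q]; exact congrArg jBt h
  obtain ⟨p, hp, hp0⟩ := (Algebra.IsIntegral.isIntegral (R := B) b).map jBt
  obtain ⟨⟨r', ⟨_, k, rfl⟩⟩, hc⟩ := IsLocalization.surj (Submonoid.powers fR) (Ψ (jBt b))
  have hroot : ((p.map (algebraMap B R)).scaleRoots (fR ^ k)).eval r' = 0 := by
    refine hιinj ?_
    rw [map_zero, ← Polynomial.eval₂_at_apply]
    have h1 := Polynomial.scaleRoots_eval₂_mul (p := p.map (algebraMap B R)) ι (Ψ (jBt b)) (fR ^ k)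
    have hB : ι.comp (algebraMap B R) = Ψ.comp (algebraMap B K) := RingHom.ext fun c => (hΨB c).symm
    rw [Polynomial.eval₂_map, hB, ← Polynomial.hom_eval₂, hp0, map_zero, mul_zero, mul_comm,
      show Ψ (jBt b) * ι (fR ^ k) = ι r' from hc] at h1
    exact h1
  obtain ⟨r, hr⟩ := dvd_of_scaleRoots (pow_mem hfR k) (hp.map _) hroot
  have hr' : Ψ (jBt b) = ι r := by
    refine ((hu.pow k)).mul_left_injective ?_
    show Ψ (jBt b) * ι fR ^ k = ι r * ι fR ^ k
    rw [← map_pow, show Ψ (jBt b) * ι (fR ^ k) = ι r' from hc, hr, map_mul, mul_comm]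
  refine ⟨r, hj ?_⟩
  show jBt (e r) = jBt b
  rw [he]
  let ΦL : L →+* K := IsLocalization.Away.lift fR (g := φ.toRingHom)
    (show IsUnit (φ fR) by rw [hφf]; exact IsUnit.of_mul_eq_one _ hfi)
  have hid : ΦL.comp Ψ = RingHom.id K := by
    refine IsLocalization.ringHom_ext (Submonoid.powers (algebraMap B C f)) (RingHom.ext fun c => ?_)
    show ΦL (Ψ (algebraMap C K c)) = algebraMap C K c
    rw [hΨ]
    exact (IsLocalization.Away.lift_eq _ _ _).trans (DFunLike.congr_fun hφψ c)
  calc φ r = ΦL (ι r) := (IsLocalization.Away.lift_eq _ _ _).symm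
    _ = jBt b := by rw [← hr']; exact DFunLike.congr_fun hid _

/-- A ring finite over `B`, inside `B[T]/(T^N - u f^α)[1/f]` and integrally closed there, is the radical extension. -/
theorem exists_equiv [IsDomain B] [IsRegularRing B] {d n x : ℕ} (a y z N α : ℕ) (u : Bˣ) (f : B) (hf : f ≠ 0)
    [IsRegularRing (B ⧸ Ideal.span {f})] (hN : N = d * n) (hα : α = d * a) (hd : 0 < d) (hn : 0 < n)
    (hNB : IsUnit (N : B)) (key : a * x + n * z = n * y + 1)
    {K Bt : Type u} [CommRing K] [CommRing Bt] [Algebra B K] [Algebra (Cring N α u f) K]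
    [IsScalarTower B (Cring N α u f) K] [IsLocalization.Away (algebraMap B (Cring N α u f) f) K]
    [Algebra B Bt] [Algebra.IsIntegral B Bt]
    (jBt : Bt →ₐ[B] K) (hj : Function.Injective jBt) (hclosed : ∀ w : K, IsIntegral B w → ∃ b, jBt b = w) :
    Nonempty (Rring (d := d) (n := n) (x := x) u f ≃ₐ[B] Bt) := by
  have hN0 : 0 < N := hN ▸ Nat.mul_pos hd hn
  have hNBd : IsUnit ((d : B) * n) := by rw [← Nat.cast_mul, ← hN]; exact hNB
  rw [IsUnit.mul_iff] at hNBd
  have := isRegularRing_Rring (x := x) u f hd hNBd.1 hn hNBd.2 hf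
  have := free_Sring u hd
  have := finite_Sring u hd
  let R := Rring (d := d) (n := n) (x := x) u f
  have hmR := monic_X_pow_sub_C (wS d u ^ x * algebraMap B (Sring d u) f) hn.ne'
  have : Module.Free (Sring d u) R := hmR.free_adjoinRoot
  have : Module.Finite (Sring d u) R := hmR.finite_adjoinRoot
  have : Module.Free B R := Module.Free.trans (R := B) (S := Sring d u) (M := R)
  have : Module.Finite B R := Module.Finite.trans (Sring d u) R
  let W : R := algebraMap (Sring d u) R (wS d u)
  let v : R := AdjoinRoot.root _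
  obtain ⟨W', hW⟩ := ((isUnit_wS u hd).map (algebraMap (Sring d u) R)).exists_right_inv
  have hWd : W ^ d = algebraMap B R u := by
    rw [← map_pow, wS_pow, ← IsScalarTower.algebraMap_apply]
  have hv : v ^ n = W ^ x * algebraMap B R f := by
    refine (root_pow hn _).trans ?_
    rw [map_mul (algebraMap (Sring d u) R), map_pow (algebraMap (Sring d u) R), ← IsScalarTower.algebraMap_apply]
  have htr : (AdjoinRoot.root _ : Cring N α u f) ^ N =
      algebraMap B (Cring N α u f) u * algebraMap B (Cring N α u f) f ^ α := by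
    refine (root_pow hN0 _).trans ?_
    rw [map_mul (algebraMap B (Cring N α u f)), map_pow (algebraMap B (Cring N α u f))]
  obtain ⟨ψ, hψ, -⟩ := exists_lift ((u : B) * f ^ α) (T := R) (Algebra.ofId B R) (v ^ a * W ^ z * W' ^ y) (N := N) (by
    rw [hN, mul_comm d n, pow_mul, (t0_pow (n := n) (x := x) a y z W W' v hW hv key).1, mul_pow, hWd, ← pow_mul,
      mul_comm a d, ← hα, map_mul (Algebra.ofId B R), map_pow (Algebra.ofId B R)]
    rfl)
  let C := Cring N α u f
  let tT : K := algebraMap C K (AdjoinRoot.root _)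
  let iT : K := IsLocalization.Away.invSelf (algebraMap B C f)
  have hfi : algebraMap B K f * iT = 1 := by
    rw [IsScalarTower.algebraMap_apply B C K]
    exact IsLocalization.Away.mul_invSelf _
  obtain ⟨φS, hφS, -⟩ := exists_lift (u : B) (Algebra.ofId B K) (tT ^ n * iT ^ a) (N := d) (by
    show _ = algebraMap B K u
    rw [mul_pow, ← pow_mul, ← pow_mul, mul_comm n d, ← hN, mul_comm a d, ← hα, ← map_pow (algebraMap C K),
      htr, map_mul (algebraMap C K), map_pow (algebraMap C K), ← IsScalarTower.algebraMap_apply,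
      ← IsScalarTower.algebraMap_apply, mul_assoc, ← mul_pow, hfi, one_pow, mul_one])
  obtain ⟨φ, hφW, hφv⟩ := exists_phi (n := n) (x := x) a y z f (K := K) tT iT (wS d u) φS hφS key hfi
  obtain ⟨e, -⟩ := exists_equiv_abs (C := C) (R := R) (n := n) (x := x) a y z f jBt hj hclosed
    (algebraMap_ne_zero_mem_nonZeroDivisors hf) key _ (AdjoinRoot.adjoinRoot_eq_top) W W' v hW hv
    (adjoin_tower_eq_top _ AdjoinRoot.adjoinRoot_eq_top _) ψ hψ φ hφW hφv
  exact ⟨e⟩

end Groth.Agent.CycCov52
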