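import Groth.Agent.CycCov52.Chart
import Groth.Agent.CycCov52.Model
import Groth.Agent.FlatMor67.SmoothIsRegular

/-! The normalised cyclic cover near a smooth component of the branch divisor. -/

set_option autoImplicit false
universe u

open CategoryTheory AlgebraicGeometry Opposite TopologicalSpace

noncomputable section

namespace Groth.Agent.CycCov52

open Var76.LineBundle

theorem dvd_of_scaleRoots_normal {R : Type u} [CommRing R]
    (hR : ∀ (M : Ideal R) [M.IsMaximal], IsDomain (Localization.AtPrime M) ∧ IsIntegrallyClosed (Localization.AtPrime M))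
    {g r : R} (hg : g ∈ nonZeroDivisors R) {p : Polynomial R} (hp : p.Monic) (h : (p.scaleRoots g).eval r = 0) :
    g ∣ r := by
  rw [← Ideal.mem_span_singleton]
  refine Ideal.mem_of_localization_maximal fun M hM => ?_
  let D := Localization.AtPrime M
  obtain ⟨_, _⟩ := hR M
  let ι := (algebraMap D (FractionRing D)).comp (algebraMap R D)
  have hg0 : ι g ≠ 0 := by
    intro h0
    rw [RingHom.comp_apply, map_eq_zero_iff _ (IsFractionRing.injective D (FractionRing D)),
      IsLocalization.map_eq_zero_iff M.primeCompl] at h0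
    obtain ⟨c, hc⟩ := h0
    exact c.2 ((mul_right_mem_nonZeroDivisors_eq_zero_iff hg).1 hc ▸ M.zero_mem)
  have hroot : p.eval₂ ι (ι r / ι g) = 0 := by
    have h1 := Polynomial.scaleRoots_eval₂_mul (p := p) ι (ι r / ι g) g
    rw [mul_div_cancel₀ _ hg0, Polynomial.eval₂_at_apply, h, map_zero] at h1
    exact (mul_eq_zero.1 h1.symm).resolve_left (pow_ne_zero _ hg0)
  obtain ⟨c, hc⟩ := IsIntegrallyClosed.isIntegral_iff.1 (⟨p.map (algebraMap R D), hp.map _,
    by rw [Polynomial.eval₂_map]; exact hroot⟩ : IsIntegral D (ι r / ι g))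
  rw [eq_div_iff hg0] at hc
  have hc' : algebraMap R D r = algebraMap R D g * c := by
    refine IsFractionRing.injective D (FractionRing D) ?_
    rw [map_mul, mul_comm]
    exact hc.symm
  rw [show algebraMap R (Localization.AtPrime M) r = _ from hc']
  exact Ideal.mul_mem_right _ _ (Ideal.mem_map_of_mem _ (Ideal.mem_span_singleton_self g))

theorem normal_localization {Y : Scheme.{u}} (hY : Pi1.IsNormalScheme Y) {V : Y.Opens} (hV : IsAffineOpen V)
    (M : Ideal Γ(Y, V)) [M.IsPrime] :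
    IsDomain (Localization.AtPrime M) ∧ IsIntegrallyClosed (Localization.AtPrime M) := by
  let p : PrimeSpectrum Γ(Y, V) := ⟨M, inferInstance⟩
  have hp : hV.fromSpec p ∈ V := hV.range_fromSpec.le ⟨p, rfl⟩
  let := TopCat.Presheaf.algebra_section_stalk Y.presheaf ⟨hV.fromSpec p, hp⟩
  have : IsLocalization M.primeCompl (Y.presheaf.stalk (hV.fromSpec p)) := hV.isLocalization_stalk' p hp
  let e : Localization.AtPrime M ≃ₐ[Γ(Y, V)] Y.presheaf.stalk (hV.fromSpec p) :=
    IsLocalization.algEquiv M.primeCompl _ _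
  obtain ⟨h1, h2⟩ := hY (hV.fromSpec p)
  exact ⟨e.injective.isDomain e.toRingHom, IsIntegrallyClosed.of_equiv e.symm.toRingEquiv⟩

theorem regular_and_closed {k : Type u} [Field k] {X : Scheme.{u}} [IsIntegral X]
    (f : X ⟶ Spec (CommRingCat.of k)) [Smooth f] {U : X.Opens} (hU : IsAffineOpen U) [Nonempty U] :
    IsRegularRing Γ(X, U) ∧ IsIntegrallyClosed Γ(X, U) := by
  let φ : k →+* Γ(X, U) := (Spec.preimage (hU.fromSpec ≫ f)).hom
  have hsm : Smooth (Spec.map (Spec.preimage (hU.fromSpec ≫ f))) := by rw [Spec.map_preimage]; infer_instance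
  have hφ : φ.Smooth := (HasRingHomProperty.Spec_iff (P := @Smooth)).1 hsm
  let : Algebra k Γ(X, U) := φ.toAlgebra
  have : Algebra.Smooth k Γ(X, U) := hφ
  exact ⟨FlatMor67.isRegularRing_of_smooth k _, IsIntegrallyClosed.of_localization_maximal fun p _ _ =>
    (Curves2.isNormalDomain_localization_of_smooth k Γ(X, U) p).2⟩

theorem isUnit_natCast_section {k : Type u} [Field k] {X : Scheme.{u}}
    (f : X ⟶ Spec (CommRingCat.of k)) {U : X.Opens} (hU : IsAffineOpen U) {N : ℕ} (hNk : (N : k) ≠ 0) :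
    IsUnit (N : Γ(X, U)) :=
  map_natCast (Spec.preimage (hU.fromSpec ≫ f)).hom N ▸ (IsUnit.mk0 _ hNk).map _

variable {X Y : Scheme.{u}} {π : Y ⟶ X}
variable {L : X.Modules} {N : ℕ} {s : Coh.structureModule X ⟶ CohB1.tensorPow L N} (R : CycCov.Root L N s π)

/-- Functions on the cover restrict injectively to the preimage of a non-empty basic open. -/
theorem res_injective [IsIntegral X] [IsReduced Y] (U : X.affineOpens) (hN0 : N ≠ 0)
    (W₀ : X.Opens) (hW₀' : Dense ((π ⁻¹ᵁ W₀ : Y.Opens) : Set Y))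
    (hbij : ∀ (V : X.affineOpens), V.1 ≤ W₀ → ∀ (e : Γ(L, V.1)) (he : CycCov.IsGen L V.1 e) (f : Γ(X, V.1))
      (hf : SecTwist.val s V.1 = f • CycCov.lpow L V.1 e N), Function.Bijective (CycCov.chart R V e he f hf))
    (e : Γ(L, U.1)) (hfr : IsFrame L U.1 e) (f : Γ(X, U.1))
    (hf : SecTwist.val s U.1 = f • CycCov.lpow L U.1 e N) (h : Γ(X, U.1)) (hne : Nonempty (X.basicOpen h)) :
    Function.Injective (Y.presheaf.map (homOfLE (π.preimage_mono (X.basicOpen_le h))).op) := by
  rw [injective_iff_map_eq_zero]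
  intro z hz
  refine (basicOpen_eq_bot_iff z).mp ?_
  rw [← le_bot_iff]
  intro p hp
  obtain ⟨q, hqz, hqW⟩ := hW₀'.inter_open_nonempty _ (Y.basicOpen z).isOpen ⟨p, hp⟩
  exfalso
  have hqU : π q ∈ U.1 := Y.basicOpen_le z hqz
  obtain ⟨g, hgW, hxg⟩ := U.2.exists_basicOpen_le ⟨_, hqW⟩ hqU
  let Vg : X.affineOpens := ⟨X.basicOpen g, U.2.basicOpen g⟩
  have hg : Vg.1 ≤ U.1 := X.basicOpen_le g
  let Vgh : X.affineOpens := ⟨X.basicOpen (g * h), U.2.basicOpen _⟩
  have h1 : Vgh.1 ≤ Vg.1 := (X.basicOpen_mul g h).le.trans inf_le_left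
  have h2 : Vgh.1 ≤ X.basicOpen h := (X.basicOpen_mul g h).le.trans inf_le_right
  have hghne : Nonempty Vgh.1 := by
    obtain ⟨x₁, hx₁⟩ := hne
    obtain ⟨w, hw⟩ := nonempty_preirreducible_inter (X.basicOpen g).isOpen (X.basicOpen h).isOpen
      ⟨_, hxg⟩ ⟨x₁, hx₁⟩
    exact ⟨⟨w, (X.basicOpen_mul g h).ge hw⟩⟩
  have hfg := coord_res s hg hf
  have hgen := isGen_of_isFrame (hfr.res hg)
  obtain ⟨c, hc⟩ := (hbij Vg hgW _ hgen _ hfg).2 (Y.presheaf.map (homOfLE (π.preimage_mono hg)).op z)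
  have hfgh := coord_res s h1 hfg
  have hgen' := isGen_of_isFrame ((hfr.res hg).res h1)
  have h0 : Y.presheaf.map (homOfLE (π.preimage_mono h1)).op (Y.presheaf.map (homOfLE (π.preimage_mono hg)).op z) = 0 := by
    have e1 := congrArg (Y.presheaf.map (homOfLE (π.preimage_mono h2)).op) hz
    rw [map_zero] at e1
    simp only [← ConcreteCategory.comp_apply, ← Functor.map_comp, ← op_comp, homOfLE_comp] at e1 ⊢
    exact e1
  rw [← hc, chart_res R h1 _ hgen hgen' _ hfg hfgh,
    ← map_zero (CycCov.chart R Vgh _ hgen' _ hfgh)] at h0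
  have hc0 := kmap_injective _ (map_injective_of_isIntegral X _) hN0 _
    (((hbij Vgh (h1.trans hgW) _ hgen' _ hfgh).1 h0).trans (map_zero _).symm)
  have := Y.basicOpen_res z (homOfLE (π.preimage_mono hg)).op
  rw [← hc, hc0, map_zero, Scheme.basicOpen_zero] at this
  exact absurd (show q ∈ (π ⁻¹ᵁ Vg.1) ⊓ Y.basicOpen z from ⟨hxg, hqz⟩) (by rw [← this]; exact id)

set_option maxHeartbeats 1000000 in
theorem exists_model {k : Type u} [Field k] (sf : X ⟶ Spec (CommRingCat.of k)) [Smooth sf] [IsIntegral X]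
    [IsFinite π] (hR : CycCov.IsCover R) (hN : 0 < N) (hNk : (N : k) ≠ 0)
    (U : X.affineOpens) [Nonempty U.1] (e : Γ(L, U.1)) (hfr : IsFrame L U.1 e) (u : Γ(X, U.1)ˣ)
    (h : Γ(X, U.1)) (α : ℕ) (h0 : h ≠ 0) [IsRegularRing (Γ(X, U.1) ⧸ Ideal.span {h})]
    (hf : SecTwist.val s U.1 = ((u : Γ(X, U.1)) * h ^ α) • CycCov.lpow L U.1 e N) :
    ∃ (d n a x : ℕ), N = d * n ∧ α = d * a ∧ 0 < d ∧ 0 < n ∧ Nat.Coprime a n ∧
      ∃ θ : CycCov3.Rring (d := d) (n := n) (x := x) u h ≃+* Γ(Y, π ⁻¹ᵁ U.1),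
        θ.toRingHom.comp (algebraMap Γ(X, U.1) _) = (π.app U.1).hom := by
  obtain ⟨-, hnor, W₀, hW₀, hW₀', hbij⟩ := hR
  have hred : IsReduced Y := by
    have : ∀ y : Y, _root_.IsReduced (Y.presheaf.stalk y) := fun y => have := (hnor y).1; inferInstance
    exact isReduced_of_isReduced_stalk Y
  obtain ⟨hreg, -⟩ := regular_and_closed sf U.2
  obtain ⟨d, n, a, x, y, z, hNd, hα, hd, hn, key⟩ := CycCov3.exists_exponents (N := N) (α := α) hN
  refine ⟨d, n, a, x, hNd, hα, hd, hn, ?_, ?_⟩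
  · refine Nat.coprime_of_dvd' fun p hp hpa hpn => ?_
    obtain ⟨a', rfl⟩ := hpa
    obtain ⟨n', rfl⟩ := hpn
    have : p ∣ p * n' * y + 1 := key ▸ dvd_add (Dvd.dvd.mul_right (Dvd.dvd.mul_right dvd_rfl _) _)
      (Dvd.dvd.mul_right (Dvd.dvd.mul_right dvd_rfl _) _)
    exact (Nat.dvd_add_right (Dvd.dvd.mul_right (Dvd.dvd.mul_right dvd_rfl _) _)).1 this
  let B := Γ(X, U.1)
  let g : B := (u : B) * h ^ α
  let Vh : X.affineOpens := ⟨X.basicOpen h, U.2.basicOpen h⟩
  have hVh : Vh.1 ≤ U.1 := X.basicOpen_le h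
  have hneh : Nonempty Vh.1 := by
    by_contra hc
    refine h0 ((basicOpen_eq_bot_iff h).mp ?_)
    rw [← le_bot_iff]
    exact fun p hp => (hc ⟨⟨p, hp⟩⟩).elim
  obtain ⟨-, hclosedh⟩ := regular_and_closed sf Vh.2
  have hfh := coord_res s hVh hf
  have hgenh := isGen_of_isFrame (hfr.res hVh)
  have huh : IsUnit (X.presheaf.map (homOfLE hVh).op h) := RingedSpace.isUnit_res_basicOpen _ h
  have hguh : IsUnit (X.presheaf.map (homOfLE hVh).op g) := by
    rw [map_mul, map_pow]
    exact (u.isUnit.map _).mul (huh.pow _)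
  have hbh := bijective_chart R Vh hN.ne' (isUnit_natCast_section sf Vh.2 hNk) W₀ hW₀ hW₀' hbij _ (hfr.res hVh)
    hgenh _ hguh hfh
  let C := CycCov3.Cring N α u h
  let T := Γ(Y, π ⁻¹ᵁ Vh.1)
  let ρ := (X.presheaf.map (homOfLE hVh).op).hom
  let σ := (Y.presheaf.map (homOfLE (π.preimage_mono hVh)).op).hom
  let cT : C →+* T := (CycCov.chart R Vh _ hgenh _ hfh).comp (kmap ρ N g)
  letI : Algebra B T := (σ.comp (π.app U.1).hom).toAlgebra
  letI : Algebra C T := cT.toAlgebra
  have hnat : ∀ b : B, π.app Vh.1 (ρ b) = σ (π.app U.1 b) := fun b =>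
    ConcreteCategory.congr_hom (π.naturality (homOfLE hVh).op) b
  have : IsScalarTower B C T := IsScalarTower.of_algebraMap_eq fun b => by
    show σ (π.app U.1 b) = cT (algebraMap B C b)
    rw [AdjoinRoot.algebraMap_eq, ← hnat]
    show _ = CycCov.chart R Vh _ hgenh _ hfh (kmap ρ N g (AdjoinRoot.of _ b))
    rw [kmap, AdjoinRoot.map_of, chart_of]
  have hunit : IsUnit (algebraMap C T (algebraMap B C h)) := by
    rw [← IsScalarTower.algebraMap_apply]
    show IsUnit (σ (π.app U.1 h))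
    rw [← hnat]
    exact huh.map _
  have hloc : IsLocalization.Away (algebraMap B C h) T := by
    refine (isLocalization_iff (Submonoid.powers (algebraMap B C h)) T).mpr ⟨?_, ?_, ?_⟩
    · rintro ⟨_, m, rfl⟩
      exact (map_pow (algebraMap C T) _ m).symm ▸ hunit.pow m
    · intro w
      obtain ⟨p, rfl⟩ := hbh.2 w
      suffices hp : ∀ q : Polynomial Γ(X, Vh.1), ∃ m : ℕ, ∃ q₀ : Polynomial B,
          q * Polynomial.C (ρ h ^ m) = q₀.map ρ by
        obtain ⟨q, rfl⟩ := AdjoinRoot.mk_surjective p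
        obtain ⟨m, q₀, hq⟩ := hp q
        refine ⟨⟨AdjoinRoot.mk _ q₀, ⟨_, m, rfl⟩⟩, ?_⟩
        show _ * cT (algebraMap B C h ^ m) = cT (AdjoinRoot.mk _ q₀)
        show _ * CycCov.chart R Vh _ hgenh _ hfh (kmap ρ N g (algebraMap B C h ^ m)) =
          CycCov.chart R Vh _ hgenh _ hfh (kmap ρ N g (AdjoinRoot.mk _ q₀))
        rw [← map_mul]
        congr 1
        rw [map_pow, AdjoinRoot.algebraMap_eq]
        simp only [kmap, AdjoinRoot.map_of, map_mk, ← hq, map_mul, AdjoinRoot.mk_C, map_pow]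
        exact congrArg (fun z => AdjoinRoot.mk _ q * z ^ m) (AdjoinRoot.map_of ρ (Polynomial.X ^ N - Polynomial.C g) _ _ h)
      intro q
      induction q using Polynomial.induction_on' with
      | add p q hp hq =>
        obtain ⟨m, p₀, hp⟩ := hp
        obtain ⟨m', q₀, hq⟩ := hq
        refine ⟨m + m', p₀ * Polynomial.C (h ^ m') + q₀ * Polynomial.C (h ^ m), ?_⟩
        simp only [Polynomial.map_add, Polynomial.map_mul, Polynomial.map_C, Polynomial.map_pow, ← hp, ← hq, map_pow, map_mul, pow_add]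
        ring
      | monomial i c =>
        have := U.2.isLocalization_basicOpen h
        obtain ⟨⟨c₀, _, m, rfl⟩, hc⟩ := IsLocalization.surj (Submonoid.powers h) c
        refine ⟨m, Polynomial.monomial i c₀, ?_⟩
        rw [Polynomial.map_monomial, Polynomial.monomial_mul_C]
        congr 1
        rw [← map_pow]
        exact hc
    · intro c c' hcc
      refine ⟨1, ?_⟩
      rw [kmap_injective ρ (map_injective_of_isIntegral X _) hN.ne' g (hbh.1 hcc)]
  let Bt := Γ(Y, π ⁻¹ᵁ U.1)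
  letI : Algebra B Bt := (π.app U.1).hom.toAlgebra
  have : Algebra.IsIntegral B Bt := ⟨(π.finite_app U.1 U.2).to_isIntegral⟩
  let j : Bt →ₐ[B] T := { σ with commutes' := fun b => rfl }
  have hj : Function.Injective j := res_injective R U hN.ne' W₀ hW₀' hbij e hfr _ hf h hneh
  have hclosed : ∀ w : T, IsIntegral B w → ∃ b, j b = w := by
    intro w hw
    letI : Algebra Bt T := σ.toAlgebra
    have hlocT : IsLocalization.Away (π.app U.1 h : Bt) T :=
      (U.2.preimage π).isLocalization_of_eq_basicOpen _ _ (Scheme.preimage_basicOpen π h)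
    obtain ⟨⟨b, ⟨_, m, rfl⟩⟩, hb⟩ := IsLocalization.surj (Submonoid.powers (π.app U.1 h : Bt)) w
    obtain ⟨p, hp, hp0⟩ := hw
    let gg : Bt := (π.app U.1).hom h ^ m
    have hgu : IsUnit (σ gg) := by
      rw [map_pow]
      exact ((hnat h) ▸ huh.map _ : IsUnit _).pow m
    have hgnz : gg ∈ nonZeroDivisors Bt := mem_nonZeroDivisors_iff_right.2 fun c hc => hj (by
      rw [map_zero]
      refine hgu.mul_left_eq_zero.1 ?_
      show σ c * σ gg = 0
      rw [← map_mul, hc, map_zero])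
    have hroot : ((p.map (π.app U.1).hom).scaleRoots gg).eval b = 0 := by
      refine hj ?_
      rw [map_zero]
      show σ _ = 0
      rw [← Polynomial.eval₂_at_apply]
      have h1 := Polynomial.scaleRoots_eval₂_mul (p := p.map (π.app U.1).hom) σ w gg
      rw [Polynomial.eval₂_map, show σ.comp (π.app U.1).hom = algebraMap B T from rfl, hp0, mul_zero,
        mul_comm (σ gg), show w * σ gg = σ b from hb] at h1
      exact h1
    obtain ⟨b', hb'⟩ := dvd_of_scaleRoots_normal (fun M _ => normal_localization hnor (U.2.preimage π) M)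
      hgnz (hp.map _) hroot
    refine ⟨b', hgu.mul_left_injective ?_⟩
    show σ b' * σ gg = w * σ gg
    rw [show w * σ gg = σ b from hb, hb', ← map_mul, mul_comm]
  obtain ⟨θ⟩ := exists_equiv (d := d) (n := n) (x := x) a y z N α u h h0 hNd hα hd hn
    (isUnit_natCast_section sf U.2 hNk) key (K := T) j hj hclosed
  exact ⟨θ.toRingEquiv, RingHom.ext fun b => θ.commutes b⟩

end Groth.Agent.CycCov52
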