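import Groth.Agent.CycCov52.Local
import Groth.Agent.CycCov52.Divisor
import Groth.Agent.QC70.Comap
import Groth.Agent.MP99.MaxLE

/-! Ramification of the cyclic cover along a smooth component of the branch divisor. -/

set_option autoImplicit false
universe u

open CategoryTheory AlgebraicGeometry Opposite TopologicalSpace

noncomputable section

namespace Groth.Agent.CycCov52

open Var76.LineBundle Polynomial

theorem isReduced_of_regular (R : Type u) [CommRing R] [IsRegularRing R] : _root_.IsReduced R := by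
  refine ⟨fun r hr => ?_⟩
  rw [← Ideal.mem_bot]
  refine Ideal.mem_of_localization_maximal fun M _ => ?_
  have : IsRegularLocalRing (Localization.AtPrime M) := IsRegularRing.isRegularLocalRing_localization M
  have := CAlg1.isDomain_regular (Localization.AtPrime M)
  rw [Ideal.map_bot, Ideal.mem_bot]
  exact (hr.map _).eq_zero

section Ring

open CycCov3

variable {B : Type u} [CommRing B] [IsDomain B] [IsRegularRing B] {d n x : ℕ} (u : Bˣ) (f : B)

theorem isReduced_quotient_wf (hd : 0 < d) (hdB : IsUnit (d : B)) [IsRegularRing (B ⧸ Ideal.span {f})] :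
    _root_.IsReduced (Sring d u ⧸ Ideal.span {wS d u ^ x * algebraMap B (Sring d u) f}) := by
  let I : Ideal B := Ideal.span {f}
  have hJ : I.map (AdjoinRoot.of (X ^ d - C (u : B) : B[X])) = Ideal.span {wS d u ^ x * algebraMap B (Sring d u) f} := by
    rw [Ideal.map_span, Set.image_singleton, Ideal.span_singleton_mul_left_unit ((isUnit_wS u hd).pow x)]
    rfl
  let e₁ := AdjoinRoot.quotAdjoinRootEquivQuotPolynomialQuot I (X ^ d - C (u : B) : B[X])
  have h := isRegularRing_adjoinRoot (S := B ⧸ I) hd (by simpa using hdB.map (Ideal.Quotient.mk I))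
    (Ideal.Quotient.mk I u) fun Q _ h => absurd (Ideal.eq_top_of_isUnit_mem Q h (u.isUnit.map _)) Ideal.IsPrime.ne_top'
  rw [show (X ^ d - C (Ideal.Quotient.mk I u) : (B ⧸ I)[X]) = (X ^ d - C (u : B) : B[X]).map (Ideal.Quotient.mk I) by
    simp] at h
  let e₂ : AdjoinRoot ((X ^ d - C (u : B) : B[X]).map (Ideal.Quotient.mk I)) ≃+*
      (Sring d u ⧸ Ideal.span {wS d u ^ x * algebraMap B (Sring d u) f}) :=
    e₁.symm.trans (Ideal.quotEquivOfEq hJ)
  have := IsRegularRing.of_ringEquiv e₂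
  exact isReduced_of_regular _

theorem span_algebraMap_eq_radical_pow (hd : 0 < d) (hn : 0 < n) (hdB : IsUnit (d : B))
    [IsRegularRing (B ⧸ Ideal.span {f})] :
    Ideal.span {algebraMap B (Rring (d := d) (n := n) (x := x) u f) f} =
      (Ideal.span {algebraMap B (Rring (d := d) (n := n) (x := x) u f) f}).radical ^ n := by
  let S := Sring d u
  let c : S := wS d u ^ x * algebraMap B S f
  let Rg := Rring (d := d) (n := n) (x := x) u f
  let v : Rg := AdjoinRoot.root _
  have hv : v ^ n = algebraMap S Rg (wS d u ^ x) * algebraMap B Rg f := by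
    refine (root_pow hn _).trans ?_
    rw [map_mul (algebraMap S Rg), ← IsScalarTower.algebraMap_apply]
  have hspan : Ideal.span {algebraMap B Rg f} = Ideal.span {v} ^ n := by
    rw [Ideal.span_singleton_pow, hv, Ideal.span_singleton_mul_left_unit (((isUnit_wS u hd).pow x).map _)]
  have := isReduced_quotient_wf (x := x) u f hd hdB
  have hrad : (Ideal.span {algebraMap B Rg f}).radical = Ideal.span {v} := by
    rw [hspan, Ideal.radical_pow _ hn.ne']
    refine le_antisymm ?_ Ideal.le_radical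
    let q : Rg →+* S ⧸ Ideal.span {c} := AdjoinRoot.lift (Ideal.Quotient.mk _) 0 (by
      rw [eval₂_sub, eval₂_X_pow, eval₂_C, zero_pow hn.ne', zero_sub, neg_eq_zero]
      exact Ideal.Quotient.eq_zero_iff_mem.mpr (Ideal.mem_span_singleton_self _))
    intro r hr
    obtain ⟨m, hm⟩ := hr
    obtain ⟨p, rfl⟩ := AdjoinRoot.mk_surjective r
    have hq0 : q (AdjoinRoot.mk _ p) = 0 := by
      refine IsReduced.eq_zero _ ⟨m, ?_⟩
      rw [← map_pow]
      obtain ⟨b, hb⟩ := Ideal.mem_span_singleton'.mp hm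
      rw [← hb, map_mul, show q v = 0 from AdjoinRoot.lift_root _, mul_zero]
    have hp : q (AdjoinRoot.mk _ p) = Ideal.Quotient.mk _ (p.coeff 0) := by
      show AdjoinRoot.lift _ _ _ (AdjoinRoot.mk _ p) = _
      rw [AdjoinRoot.lift_mk, Polynomial.eval₂_at_zero]
    rw [hp] at hq0
    obtain ⟨b, hb⟩ := Ideal.mem_span_singleton'.mp (Ideal.Quotient.eq_zero_iff_mem.mp hq0)
    rw [← p.X_mul_divX_add, map_add]
    refine Ideal.add_mem _ ?_ ?_
    · rw [map_mul (AdjoinRoot.mk _), AdjoinRoot.mk_X]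
      exact Ideal.mul_mem_right _ _ (Ideal.mem_span_singleton_self _)
    rw [AdjoinRoot.mk_C, ← hb, map_mul (AdjoinRoot.of _)]
    refine Ideal.mul_mem_left _ _ ?_
    rw [← AdjoinRoot.algebraMap_eq, ← root_pow hn c]
    exact Ideal.pow_mem_of_mem _ (Ideal.mem_span_singleton_self _) n hn
  rw [hrad]
  exact hspan

end Ring

variable {X Y : Scheme.{u}} {π : Y ⟶ X}
variable {L : X.Modules} {N : ℕ} {s : Coh.structureModule X ⟶ CohB1.tensorPow L N}

theorem map_ideal_eq_radical_pow {k : Type u} [Field k] [IsAlgClosed k] (sf : X ⟶ Spec (CommRingCat.of k)) [Smooth sf]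
    [IsIntegral X] (hL : PicF.IsInvertible L) (R : CycCov.Root L N s π) (hR : CycCov.IsCover R)
    (hN : 0 < N) (hNk : (N : k) ≠ 0)
    {r : ℕ} {D : Fin r → X.IdealSheafData} (hD : LogNCD.IsNCD D sf) {α : Fin r → ℕ}
    (hs : CycCov.IsZeroDiv (CohB1.tensorPow L N) s (CycCov.divIdeal D α))
    {W : X.Opens} (hW : ∀ x ∈ W, ∀ j j' : Fin r, x ∈ (D j).support → x ∈ (D j').support → j = j')
    {x : X} (hx : x ∈ W) :
    ∃ U : X.affineOpens, x ∈ U.1 ∧ U.1 ≤ W ∧ ∀ j : Fin r,
      ((D j).ideal U).map (π.app U.1).hom = ((((D j).ideal U).map (π.app U.1).hom).radical) ^ (N / Nat.gcd N (α j)) := by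
  classical
  have : IsFinite π := hR.1
  by_cases h : ∃ j, x ∈ (D j).support
  · obtain ⟨j₀, hj₀⟩ := h
    let T : Finset (Fin r) := Finset.univ.filter (· ≠ j₀)
    have hxT : x ∈ W ⊓ avoid D T := ⟨hx, mem_avoid.mpr fun j hj hxj =>
      (Finset.mem_filter.mp hj).2 (hW x hx j j₀ hxj hj₀)⟩
    obtain ⟨U, e, h, u, hxU, hUle, he, h0, hreg, hh, -, hf⟩ :=
      exists_branch_chart sf hL hD hs hxT j₀ hj₀ fun j hne _ hxj => hne (hW x hx j j₀ hxj hj₀)
    have : Nonempty U.1 := ⟨⟨x, hxU⟩⟩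
    refine ⟨U, hxU, fun z hz => (hUle hz).1, fun j => ?_⟩
    by_cases hj : j = j₀
    · subst hj
      obtain ⟨d, n, a, x', hNd, hα, hd, hn, hco, θ, hθ⟩ := exists_model R sf hR hN hNk U e he u h (α j) h0 hf
      obtain ⟨_, _⟩ := regular_and_closed sf U.2
      have hNB := isUnit_natCast_section sf U.2 hNk
      rw [hNd, Nat.cast_mul, IsUnit.mul_iff] at hNB
      have hg : N / Nat.gcd N (α j) = n := by
        rw [hNd, hα, Nat.gcd_mul_left, hco.symm.gcd_eq_one, mul_one, Nat.mul_div_cancel_left _ hd]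
      rw [hg, hh, Ideal.map_span, Set.image_singleton, ← hθ]
      have e1 := congrArg (Ideal.map θ.toRingHom)
        (span_algebraMap_eq_radical_pow (x := x') (n := n) u h hd hn hNB.1)
      rw [Ideal.map_pow, Ideal.map_radical_of_surjective θ.surjective (by
        exact fun z hz => by rw [show z = 0 from θ.injective (hz.trans (map_zero θ).symm)]; exact Ideal.zero_mem _), Ideal.map_span, Set.image_singleton] at e1
      exact e1
    · have htop : (D j).ideal U = ⊤ := ideal_eq_top_of_disjoint _ _ fun z hz =>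
        mem_avoid.mp (hUle hz).2 j (Finset.mem_filter.mpr ⟨Finset.mem_univ _, hj⟩)
      rw [htop, Ideal.map_top, Ideal.radical_top, Ideal.top_pow]
  · obtain ⟨U, hU, hxU, hUle⟩ := exists_isAffineOpen_mem_and_subset (U := W ⊓ avoid D Finset.univ)
      (show x ∈ W ⊓ avoid D Finset.univ from ⟨hx, mem_avoid.mpr fun j _ hxj => h ⟨j, hxj⟩⟩)
    refine ⟨⟨U, hU⟩, hxU, fun z hz => (hUle hz).1, fun j => ?_⟩
    rw [ideal_eq_top_of_disjoint _ _ fun z hz => mem_avoid.mp (hUle hz).2 j (Finset.mem_univ _),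
      Ideal.map_top, Ideal.radical_top, Ideal.top_pow]

theorem ideal_eq_of_charts [IsAffineHom π] {I J : Y.IdealSheafData} {W : X.Opens}
    (h : ∀ x ∈ W, ∃ U : X.affineOpens, x ∈ U.1 ∧ U.1 ≤ W ∧
      I.ideal ⟨π ⁻¹ᵁ U.1, U.2.preimage π⟩ = J.ideal ⟨π ⁻¹ᵁ U.1, U.2.preimage π⟩)
    {V : Y.affineOpens} (hV : V.1 ≤ π ⁻¹ᵁ W) : I.ideal V = J.ideal V := by
  refine le_antisymm ?_ ?_ <;> refine MP99.ideal_le_of_comap_le (MP99.comap_le_of_ideal_le fun y hy => ?_) hV <;>
    obtain ⟨U, hU, hUW, e⟩ := h (π y) hy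
  · exact ⟨⟨_, U.2.preimage π⟩, hU, π.preimage_mono hUW, e.le⟩
  · exact ⟨⟨_, U.2.preimage π⟩, hU, π.preimage_mono hUW, e.ge⟩

end Groth.Agent.CycCov52
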