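import Groth.Agent.CycCov52.Local
import Groth.Agent.CycCov52.Divisor
import Groth.Agent.Var76.RegSmooth
import Mathlib.AlgebraicGeometry.Morphisms.Etale

/-! The cyclic cover is smooth over a non-singular branch locus. -/

set_option autoImplicit false
universe u

open CategoryTheory AlgebraicGeometry Opposite TopologicalSpace

noncomputable section

namespace Groth.Agent.CycCov52

open Var76.LineBundle

variable {X Y : Scheme.{u}} {π : Y ⟶ X}
variable {L : X.Modules} {N : ℕ} {s : Coh.structureModule X ⟶ CohB1.tensorPow L N}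

theorem smooth_fromSpec_of_chart {k : Type u} [Field k] [IsAlgClosed k] (sf : X ⟶ Spec (CommRingCat.of k)) [Smooth sf]
    [IsIntegral X] (R : CycCov.Root L N s π) (hR : CycCov.IsCover R) [IsFinite π] (hN : 0 < N) (hNk : (N : k) ≠ 0)
    (U : X.affineOpens) [Nonempty U.1] (e : Γ(L, U.1)) (hfr : IsFrame L U.1 e) (u : Γ(X, U.1)ˣ)
    (h : Γ(X, U.1)) (α : ℕ) (h0 : h ≠ 0) [IsRegularRing (Γ(X, U.1) ⧸ Ideal.span {h})]
    (hf : SecTwist.val s U.1 = ((u : Γ(X, U.1)) * h ^ α) • CycCov.lpow L U.1 e N) :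
    Smooth ((U.2.preimage π).fromSpec ≫ π ≫ sf) := by
  obtain ⟨d, n, a, x, hNd, -, hd, hn, -, θ, hθ⟩ := exists_model R sf hR hN hNk U e hfr u h α h0 hf
  obtain ⟨hreg, -⟩ := regular_and_closed sf U.2
  have hNB := isUnit_natCast_section sf U.2 hNk
  rw [hNd, Nat.cast_mul, IsUnit.mul_iff] at hNB
  have := CycCov3.isRegularRing_Rring (x := x) u h hd hNB.1 hn hNB.2 h0
  let φ := Spec.preimage (U.2.fromSpec ≫ sf)
  have hcomp : (U.2.preimage π).fromSpec ≫ π ≫ sf = Spec.map (φ ≫ π.app U.1) := by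
    rw [Spec.map_comp, Spec.map_preimage, ← Category.assoc, ← Category.assoc, π.app_eq_appLE]
    exact congrArg (· ≫ sf) (U.2.SpecMap_appLE_fromSpec π (U.2.preimage π) le_rfl).symm
  rw [hcomp, HasRingHomProperty.Spec_iff (P := @Smooth)]
  have : IsOpenImmersion U.2.fromSpec := IsAffineOpen.isOpenImmersion_fromSpec U.2
  have : Smooth U.2.fromSpec := inferInstance
  have hsm : Smooth (Spec.map φ) := by rw [Spec.map_preimage]; infer_instance
  have hφ : φ.hom.Smooth := (HasRingHomProperty.Spec_iff (P := @Smooth)).1 hsm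
  let Bt := Γ(Y, π ⁻¹ᵁ U.1)
  have hφft : φ.hom.FiniteType := by
    let : Algebra k Γ(X, U.1) := φ.hom.toAlgebra
    have : Algebra.Smooth k Γ(X, U.1) := hφ
    exact (inferInstance : Algebra.FiniteType k Γ(X, U.1))
  let : Algebra k Bt := ((π.app U.1).hom.comp φ.hom).toAlgebra
  have : Algebra.FiniteType k Bt := (RingHom.Finite.finiteType (π.finite_app U.1 U.2)).comp hφft
  have : IsRegularRing Bt := IsRegularRing.of_ringEquiv θ
  show Algebra.Smooth k Bt
  exact Var76.RegSmooth.smooth_of_regular fun M _ => IsRegularRing.isRegularLocalRing_localization M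

end Groth.Agent.CycCov52
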